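import Mathlib

/-!
# Tools: cyclic chains and commuting traces
-/

set_option autoImplicit false

open scoped commutatorElement

namespace Cfsg.Agent.Solv.JNPC

variable {p : ℕ} [hp : Fact p.Prime]

/-- The images of a nilpotent endomorphism at a vector of depth `m` have order at least `p ^ m`. -/
theorem pow_le_card_chain {M : Type*} [AddCommGroup M] [Finite M] (hMp : ∀ x : M, p • x = 0)
    (N : AddMonoid.End M) {n : ℕ} (hN : N ^ n = 0) (y : M) :
    ∀ (r j : ℕ), (N ^ (j + r)) y ≠ 0 →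
      p ^ (r + 1) ≤ Nat.card (AddSubgroup.closure {x | ∃ i, j ≤ i ∧ x = (N ^ i) y}) := by
  set L : ℕ → AddSubgroup M := fun j => AddSubgroup.closure {x | ∃ i, j ≤ i ∧ x = (N ^ i) y}
  have hmem : ∀ i j, j ≤ i → (N ^ i) y ∈ L j := fun i j h =>
    AddSubgroup.subset_closure ⟨i, h, rfl⟩
  have hshift : ∀ c j, ∀ x ∈ L j, (N ^ c) x ∈ L (j + c) := by
    intro c j x hx
    induction hx using AddSubgroup.closure_induction with
    | mem x hx =>
      obtain ⟨i, hi, rfl⟩ := hx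
      show ((N ^ c) * (N ^ i)) y ∈ _
      rw [← pow_add]
      exact hmem _ _ (by omega)
    | zero => rw [map_zero]; exact zero_mem _
    | add a b _ _ ha hb => rw [map_add]; exact add_mem ha hb
    | neg a _ ha => rw [map_neg]; exact neg_mem ha
  have hstep : ∀ j, (N ^ j) y ≠ 0 → (N ^ j) y ∉ L (j + 1) := by
    intro j hj hcon
    have hle : L j ≤ L (j + 1) := (AddSubgroup.closure_le _).2 fun x ⟨i, hi, he⟩ => by
      subst he
      rcases hi.eq_or_lt with h | h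
      · subst h; exact hcon
      · exact hmem _ _ h
    have hall : ∀ c i, (N ^ i) y ∈ L j → (N ^ i) y ∈ L (j + c) := by
      intro c
      induction c with
      | zero => exact fun i h => h
      | succ c ih =>
        intro i hi
        have h2 : L (j + c) ≤ L (j + c + 1) := (AddSubgroup.closure_le _).2 fun x ⟨l, hl, he⟩ => by
          subst he
          rcases hl.eq_or_lt with h | h
          · subst h
            have := hshift c (j + 1) _ hcon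
            change ((N ^ c) * (N ^ j)) y ∈ _ at this
            rwa [← pow_add, add_comm c j, show j + 1 + c = j + c + 1 by omega] at this
          · exact hmem _ _ h
        exact h2 (ih i hi)
    refine hj ?_
    have h1 := hall n j (hmem _ _ le_rfl)
    suffices L (j + n) ≤ ⊥ from AddSubgroup.mem_bot.1 (this h1)
    refine (AddSubgroup.closure_le _).2 fun x ⟨i, hi, he⟩ => AddSubgroup.mem_bot.2 ?_
    rw [he, show i = (i - n) + n by omega, pow_add, hN, mul_zero]; rfl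
  intro r
  induction r with
  | zero =>
    intro j hj
    have h1 : (⟨_, hmem j j le_rfl⟩ : L j) ≠ 0 := fun h => hj (congrArg Subtype.val h)
    have h2 : addOrderOf (⟨_, hmem j j le_rfl⟩ : L j) = p :=
      addOrderOf_eq_prime (Subtype.ext (hMp _)) h1
    rw [zero_add, pow_one]
    exact Nat.le_of_dvd Nat.card_pos (h2 ▸ addOrderOf_dvd_natCard _)
  | succ r ih =>
    intro j hj
    have hj0 : (N ^ j) y ≠ 0 := fun h => hj (by
      rw [show j + (r + 1) = (r + 1) + j by omega, pow_add]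
      show (N ^ (r + 1)) ((N ^ j) y) = 0
      rw [h, map_zero])
    have h1 := ih (j + 1) (by rwa [show j + 1 + r = j + (r + 1) by omega])
    let φ : Fin p × L (j + 1) → L j := fun z => ⟨(z.1 : ℕ) • (N ^ j) y + (z.2 : M),
      add_mem (nsmul_mem (hmem j j le_rfl) _)
        ((AddSubgroup.closure_mono (fun x hx => by
          obtain ⟨i, hi, he⟩ := hx; exact ⟨i, by omega, he⟩) : L (j + 1) ≤ L j) z.2.2)⟩
    have hφ : Function.Injective φ := by
      rintro ⟨a, l⟩ ⟨b, l'⟩ he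
      have h2 : (a : ℕ) • (N ^ j) y + (l : M) = (b : ℕ) • (N ^ j) y + (l' : M) :=
        congrArg Subtype.val he
      have hab : a = b := by
        by_contra hne
        have h3 : ((a : ℤ) - b) • (N ^ j) y ∈ L (j + 1) := by
          have h4 : ((a : ℤ) - b) • (N ^ j) y = (l' : M) - l := by
            rw [sub_zsmul, natCast_zsmul, natCast_zsmul, ← sub_eq_zero]
            have := sub_eq_zero.2 h2
            abel_nf at this ⊢
            exact this
          rw [h4]; exact sub_mem l'.2 l.2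
        have hcop : IsCoprime ((a : ℤ) - b) (p : ℤ) := by
          refine ((Nat.prime_iff_prime_int.1 hp.out).coprime_iff_not_dvd.2 fun hd => hne ?_).symm
          have := Int.eq_zero_of_dvd_of_natAbs_lt_natAbs hd (by omega)
          exact Fin.ext (by omega)
        obtain ⟨u, v, huv⟩ := hcop
        refine hstep j hj0 ?_
        have h5 := AddSubgroup.zsmul_mem _ h3 u
        rw [← mul_zsmul] at h5
        have h6 : (u * ((a : ℤ) - b)) • (N ^ j) y = (N ^ j) y := by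
          have : u * ((a : ℤ) - b) = 1 - v * p := by linarith
          rw [this, sub_zsmul, one_zsmul, mul_zsmul, natCast_zsmul, hMp, zsmul_zero, neg_zero, add_zero]
        rwa [h6] at h5
      subst hab
      exact Prod.ext rfl (Subtype.ext (add_left_cancel h2))
    have h2 := Nat.card_le_card_of_injective φ hφ
    rw [Nat.card_prod, Nat.card_fin] at h2
    calc p ^ (r + 1 + 1) = p * p ^ (r + 1) := pow_succ' p (r + 1)
      _ ≤ p * Nat.card (L (j + 1)) := Nat.mul_le_mul_left p h1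
      _ ≤ _ := h2

variable {G : Type*} [Group G]

/-- In a group of class two on which an abelian group acts fixing the commutators, the traces
`g(w) * g⁻¹(w)` commute with each other. -/
theorem traces_commute {U V K : Subgroup G} (hV : ∀ u ∈ U, ∀ v ∈ V, u * v = v * u)
    (hUU : ∀ x ∈ U, ∀ y ∈ U, ⁅x, y⁆ ∈ V) (hKU : ∀ g ∈ K, ∀ x ∈ U, g * x * g⁻¹ ∈ U)
    (hKV : ∀ g ∈ K, ∀ v ∈ V, g * v = v * g) (hK : ∀ g ∈ K, ∀ h ∈ K, g * h = h * g)
    {w : G} (hw : w ∈ U) {g h : G} (hg : g ∈ K) (hh : h ∈ K) :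
    Commute ((g * w * g⁻¹) * (g⁻¹ * w * g)) ((h * w * h⁻¹) * (h⁻¹ * w * h)) := by
  have hc : ∀ g ∈ K, g * w * g⁻¹ ∈ U := fun g hg => hKU g hg w hw
  have hc' : ∀ g ∈ K, g⁻¹ * w * g ∈ U := fun g hg => by simpa using hKU g⁻¹ (inv_mem hg) w hw
  have hmulL : ∀ x₁ ∈ U, ∀ x₂ ∈ U, ∀ y ∈ U, ⁅x₁ * x₂, y⁆ = ⁅x₂, y⁆ * ⁅x₁, y⁆ := by
    intro x₁ h₁ x₂ h₂ y hy
    calc ⁅x₁ * x₂, y⁆ = x₁ * ⁅x₂, y⁆ * x₁⁻¹ * ⁅x₁, y⁆ := by simp [commutatorElement_def, mul_assoc]
      _ = ⁅x₂, y⁆ * ⁅x₁, y⁆ := by rw [hV x₁ h₁ _ (hUU x₂ h₂ y hy), mul_inv_cancel_right]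
  have hmulR : ∀ x ∈ U, ∀ y₁ ∈ U, ∀ y₂ ∈ U, ⁅x, y₁ * y₂⁆ = ⁅x, y₁⁆ * ⁅x, y₂⁆ := by
    intro x hx y₁ h₁ y₂ h₂
    calc ⁅x, y₁ * y₂⁆ = ⁅x, y₁⁆ * (y₁ * ⁅x, y₂⁆ * y₁⁻¹) := by
          simp [commutatorElement_def, mul_assoc]
      _ = ⁅x, y₁⁆ * ⁅x, y₂⁆ := by rw [hV y₁ h₁ _ (hUU x hx y₂ h₂), mul_inv_cancel_right]
  have hpair : ∀ a ∈ K, ∀ b ∈ K, ⁅a * w * a⁻¹, b * w * b⁻¹⁆ =
      ⁅w, (a⁻¹ * b) * w * (a⁻¹ * b)⁻¹⁆ := by
    intro a ha b hb
    have hd := K.mul_mem (K.inv_mem ha) hb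
    have hm := hUU w hw _ (hc _ hd)
    calc ⁅a * w * a⁻¹, b * w * b⁻¹⁆
        = a * ⁅w, (a⁻¹ * b) * w * (a⁻¹ * b)⁻¹⁆ * a⁻¹ := by
          simp [commutatorElement_def, mul_assoc]
      _ = _ := by rw [hKV a ha _ hm, mul_inv_cancel_right]
  set β : G → G := fun a => ⁅w, a * w * a⁻¹⁆ with hβ
  have hβV : ∀ a ∈ K, β a ∈ V := fun a ha => hUU w hw _ (hc a ha)
  have hβinv : ∀ a ∈ K, β a⁻¹ * β a = 1 := by
    intro a ha
    have h1 := hpair a ha 1 K.one_mem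
    simp only [one_mul, inv_one, mul_one] at h1
    show ⁅w, a⁻¹ * w * a⁻¹⁻¹⁆ * ⁅w, a * w * a⁻¹⁆ = 1
    rw [← h1, ← commutatorElement_inv w (a * w * a⁻¹), inv_mul_cancel]
  refine commutatorElement_eq_one_iff_mul_comm.1 ?_
  rw [hmulL _ (hc g hg) _ (hc' g hg) _ (U.mul_mem (hc h hh) (hc' h hh)),
    hmulR _ (hc' g hg) _ (hc h hh) _ (hc' h hh), hmulR _ (hc g hg) _ (hc h hh) _ (hc' h hh)]
  have p1 : ⁅g * w * g⁻¹, h * w * h⁻¹⁆ = β (g⁻¹ * h) := hpair g hg h hh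
  have p2 : ⁅g * w * g⁻¹, h⁻¹ * w * h⁆ = β (g * h)⁻¹ := by
    have := hpair g hg h⁻¹ (inv_mem hh)
    rw [inv_inv] at this
    rw [this]
    show ⁅w, _⁆ = ⁅w, (g * h)⁻¹ * w * (g * h)⁻¹⁻¹⁆
    rw [mul_inv_rev g h, hK _ (inv_mem hh) _ (inv_mem hg)]
  have p3 : ⁅g⁻¹ * w * g, h * w * h⁻¹⁆ = β (g * h) := by
    have := hpair g⁻¹ (inv_mem hg) h hh
    rw [inv_inv] at this
    exact this
  have p4 : ⁅g⁻¹ * w * g, h⁻¹ * w * h⁆ = β (g⁻¹ * h)⁻¹ := by
    have := hpair g⁻¹ (inv_mem hg) h⁻¹ (inv_mem hh)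
    rw [inv_inv, inv_inv] at this
    rw [this]
    show ⁅w, _⁆ = ⁅w, (g⁻¹ * h)⁻¹ * w * (g⁻¹ * h)⁻¹⁻¹⁆
    rw [mul_inv_rev g⁻¹ h, inv_inv, hK _ (inv_mem hh) _ hg]
  rw [p1, p2, p3, p4]
  set A := β (g⁻¹ * h)
  set B := β (g * h)
  have hA : A ∈ V := hβV _ (mul_mem (inv_mem hg) hh)
  have hB : B ∈ V := hβV _ (mul_mem hg hh)
  have hA' := hβinv _ (mul_mem (inv_mem hg) hh)
  have hB' := hβinv _ (mul_mem hg hh)
  have eA : β (g⁻¹ * h)⁻¹ = A⁻¹ := eq_inv_of_mul_eq_one_left hA'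
  have eB : β (g * h)⁻¹ = B⁻¹ := eq_inv_of_mul_eq_one_left hB'
  rw [eA, eB]
  group

end Cfsg.Agent.Solv.JNPC
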