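import Cfsg.Agent.Lib.Solv.JNPC.Ring
import Cfsg.Agent.Lib.Solv.JNPC.Tools
import Cfsg.Agent.Lib.Solv.Coprime
import Cfsg.Agent.Lib.Fusion.CoatomNPC

/-!
# Abelian subgroups of largest order do not act freely on a coprime abelian group
-/

set_option autoImplicit false
set_option linter.style.haveILetI false
set_option maxHeartbeats 1600000

open scoped commutatorElement

namespace Cfsg.Agent.Solv.JNPC

variable {p : ℕ} [hp : Fact p.Prime]

theorem exists_mul_of_mem_sup' {X : Type*} [Group X] {H D : Subgroup X}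
    (h : D ≤ Subgroup.centralizer (H : Set X)) {x : X} (hx : x ∈ H ⊔ D) :
    ∃ a ∈ H, ∃ b ∈ D, a * b = x := by
  rw [← SetLike.mem_coe, Subgroup.coe_mul_of_right_le_normalizer_left H D
    (h.trans (Subgroup.centralizer_le_normalizer _))] at hx
  exact hx

theorem relIndex_mul_card {X : Type*} [Group X] [Finite X] {H K : Subgroup X} (h : H ≤ K) :
    Nat.card H * H.relIndex K = Nat.card K := by
  have := Subgroup.relIndex_mul_relIndex (⊥ : Subgroup X) H K bot_le h
  rwa [Subgroup.relIndex_bot_left, Subgroup.relIndex_bot_left] at this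

/-- The main configuration: `a` acts on `K` modulo `P` with `a ^ p ^ f` fixed-point-free, and no
abelian subgroup of `P ⊔ A` is larger than `A`. -/
theorem core (hp5 : 5 ≤ p) {X : Type*} [Group X] [Finite X] {P K A : Subgroup X} [P.Normal]
    (hP : IsPGroup p P) (hA : IsPGroup p A) (hAc : ∀ x ∈ A, ∀ y ∈ A, x * y = y * x)
    (hKc : ∀ x ∈ K, ∀ y ∈ K, x * y = y * x) (hKp : (Nat.card K).Coprime p)
    (hPK : (P ⊔ K).Normal) {a : X} (ha : a ∈ A) (f : ℕ)
    (hidx : (A ⊓ P).relIndex A ≤ p ^ (f + 1))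
    (hfpf : ∀ k ∈ K, ⁅a ^ p ^ f, k⁆ ∈ P → k = 1) (hne : ⁅P, K⁆ ≠ ⊥)
    (hmax : ∀ B : Subgroup X, B ≤ P ⊔ A → (∀ x ∈ B, ∀ y ∈ B, x * y = y * x) →
      Nat.card B ≤ Nat.card A) : False := by
  classical
  haveI := hPK
  -- a minimal normal subgroup on which `K` acts
  obtain ⟨U, ⟨hUn, hUP, hUK⟩, hUmin⟩ := Set.exists_min_image
    {U : Subgroup X | U.Normal ∧ U ≤ P ∧ ⁅U, K⁆ ≠ ⊥} (fun U : Subgroup X => Nat.card U)
    (Set.toFinite _) ⟨P, inferInstance, le_rfl, hne⟩
  haveI := hUn
  have hsmall : ∀ N : Subgroup X, N.Normal → N < U → ⁅N, K⁆ = ⊥ := fun N hN hlt => by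
    by_contra h
    exact hlt.ne (Subgroup.eq_of_le_of_card_ge hlt.le (hUmin N ⟨hN, hlt.le.trans hUP, h⟩))
  have hbot : (⊥ : Subgroup X) < U := bot_lt_iff_ne_bot.2 fun h => hUK (by
    rw [h, Subgroup.commutator_bot_left])
  obtain ⟨V, ⟨hVn, hVU⟩, hVmax⟩ := Set.exists_max_image
    {V : Subgroup X | V.Normal ∧ V < U} (fun V : Subgroup X => Nat.card V)
    (Set.toFinite _) ⟨⊥, inferInstance, hbot⟩
  haveI := hVn
  have hchief : IsChiefFactor U V := by
    refine ⟨hVU, hUn, hVn, fun N hN hVN hNU => ?_⟩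
    rcases hNU.eq_or_lt with h | h
    · exact .inr h
    · exact .inl (Subgroup.eq_of_le_of_card_ge hVN (hVmax N ⟨hN, h⟩)).symm
  have hVK : K ≤ Subgroup.centralizer (V : Set X) := by
    rw [Subgroup.le_centralizer_iff, ← Subgroup.commutator_eq_bot_iff_le_centralizer]
    exact hsmall V hVn hVU
  have hco : (Nat.card K).Coprime (Nat.card U) := by
    obtain ⟨n, hn⟩ := IsPGroup.iff_card.1 (hP.to_le hUP)
    rw [hn]; exact hKp.pow_right n
  have hKU : K ≤ Subgroup.normalizer (U : Set X) := by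
    rw [Subgroup.normalizer_eq_top]; exact le_top
  have hsolK : Group.IsSolvable K :=
    Group.isSolvable_of_comm fun s t => Subtype.ext (hKc s s.2 t t.2)
  have hUKK : ⁅⁅U, K⁆, K⁆ = ⁅U, K⁆ := commutator_commutator_eq hKU hco (Or.inl hsolK)
  have hUV : ∀ u ∈ U, ∀ v ∈ V, u * v = v * u := by
    haveI : (Subgroup.centralizer (V : Set X)).Normal := Subgroup.normal_centralizer (H := V)
    have hle : Subgroup.normalClosure ((⁅U, K⁆ : Subgroup X) : Set X) ≤
        U ⊓ Subgroup.centralizer (V : Set X) :=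
      Subgroup.normalClosure_le_normal (le_inf (Subgroup.commutator_le_left U K)
        ((Subgroup.commutator_mono le_rfl hVK).trans (Subgroup.commutator_le_right U _)))
    have heq : Subgroup.normalClosure ((⁅U, K⁆ : Subgroup X) : Set X) = U := by
      by_contra h
      have h1 := hsmall _ inferInstance (lt_of_le_of_ne (hle.trans inf_le_left) h)
      refine hUK ?_
      rw [← hUKK, eq_bot_iff]
      exact (Subgroup.commutator_mono Subgroup.subset_normalClosure le_rfl).trans h1.le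
    intro u hu v hv
    exact (Subgroup.mem_centralizer_iff.1 (hle (heq.ge hu)).2 v hv).symm
  -- the quotient by `V`
  set π := QuotientGroup.mk' V
  have hπ : Function.Surjective π := QuotientGroup.mk'_surjective V
  have hker : π.ker = V := QuotientGroup.ker_mk' V
  set W := U.map π
  haveI hWn : W.Normal := hUn.map π hπ
  have hcen : ⁅U, P⁆ ≤ V := Fusion.chief_centralized hP hchief hUP
  have hPc : ∀ x ∈ P, π x ∈ Subgroup.centralizer (W : Set (X ⧸ V)) := by
    intro x hx
    refine Subgroup.mem_centralizer_iff.2 ?_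
    rintro _ ⟨u, hu, rfl⟩
    exact commutatorElement_eq_one_iff_mul_comm.1 (by
      rw [← map_commutatorElement]
      exact (QuotientGroup.eq_one_iff _).2 (hcen (Subgroup.commutator_mem_commutator hu hx)))
  have habW : ∀ x ∈ W, ∀ y ∈ W, x * y = y * x := by
    rintro x hx _ ⟨u, hu, rfl⟩
    exact Subgroup.mem_centralizer_iff.1 (hPc u (hUP hu)) x hx
  have hWmin : ∀ M : Subgroup (X ⧸ V), M.Normal → M ≤ W → M = ⊥ ∨ M = W := by
    intro M hM hMW
    have hback : (M.comap π).map π = M := Subgroup.map_comap_eq_self_of_surjective hπ M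
    refine (hchief.2.2.2 _ (hM.comap π) (hker.ge.trans (Subgroup.ker_le_comap π M)) ?_).imp
      (fun h => ?_) (fun h => by rw [← hback, h])
    · refine (Subgroup.comap_mono hMW).trans ?_
      rw [Subgroup.comap_map_eq, hker]
      exact sup_le le_rfl hVU.le
    · rw [← hback, h]
      exact (Subgroup.map_eq_bot_iff _).2 hker.ge
  have hWp : IsPGroup p W := (hP.to_le hUP).map π
  have hW1 : W ≠ ⊥ := fun h => hVU.not_ge (((Subgroup.map_eq_bot_iff U).1 h).trans hker.le)
  have hexp : ∀ x ∈ W, x ^ p = 1 := Fusion.pow_prime_eq_one_of_minimal hWp hW1 hWmin habW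
  have hfixK : ∀ w ∈ W, (∀ k ∈ K, π k * w = w * π k) → w = 1 := by
    set C := W ⊓ Subgroup.centralizer ((P ⊔ K).map π : Set (X ⧸ V))
    haveI : ((P ⊔ K).map π).Normal := hPK.map π hπ
    haveI : (Subgroup.centralizer ((P ⊔ K).map π : Set (X ⧸ V))).Normal :=
      Subgroup.normal_centralizer (H := (P ⊔ K).map π)
    intro w hw hk
    have hwC : w ∈ C := by
      refine ⟨hw, ?_⟩
      suffices (P ⊔ K).map π ≤ Subgroup.centralizer ({w} : Set (X ⧸ V)) from
        Subgroup.mem_centralizer_iff.2 fun y hy =>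
          (Subgroup.mem_centralizer_iff.1 (this hy) w rfl).symm
      rw [Subgroup.map_sup]
      refine sup_le ?_ ?_
      · rintro _ ⟨x, hx, rfl⟩
        refine Subgroup.mem_centralizer_iff.2 fun y hy => ?_
        rw [Set.mem_singleton_iff.1 hy]
        exact Subgroup.mem_centralizer_iff.1 (hPc x hx) w hw
      · rintro _ ⟨x, hx, rfl⟩
        refine Subgroup.mem_centralizer_iff.2 fun y hy => ?_
        rw [Set.mem_singleton_iff.1 hy]
        exact (hk x hx).symm
    rcases hWmin C inferInstance inf_le_left with h | h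
    · exact Subgroup.mem_bot.1 (h ▸ hwC)
    · exfalso
      refine hUK ?_
      have h1 : ⁅U, K⁆ ≤ V := by
        rw [← hker, ← Subgroup.map_eq_bot_iff, Subgroup.map_commutator,
          Subgroup.commutator_eq_bot_iff_le_centralizer]
        exact (h.ge.trans inf_le_right).trans
          (Subgroup.centralizer_le (Subgroup.map_mono le_sup_right))
      rw [← hUKK, eq_bot_iff]
      exact (Subgroup.commutator_mono h1 le_rfl).trans (hsmall V hVn hVU).le
  -- the endomorphism ring of the factor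
  letI : CommGroup W := { (inferInstance : Group W) with
    mul_comm := fun x y => Subtype.ext (habW x x.2 y y.2) }
  let ψ : X →* AddMonoid.End (Additive W) :=
    { toFun := fun h => MonoidHom.toAdditive (MulAut.conjNormal (π h) : MulAut W).toMonoidHom
      map_one' := by
        refine DFunLike.ext _ _ fun x => ?_
        show Additive.ofMul ((MulAut.conjNormal (π 1)) x.toMul) = x
        rw [map_one, map_one]; rfl
      map_mul' := fun h k => by
        refine DFunLike.ext _ _ fun x => ?_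
        show Additive.ofMul ((MulAut.conjNormal (π (h * k))) x.toMul) =
          Additive.ofMul ((MulAut.conjNormal (π h)) ((MulAut.conjNormal (π k)) x.toMul))
        rw [map_mul, map_mul]; rfl }
  have hψ : ∀ (h : X) (x : Additive W),
      (((ψ h) x).toMul : X ⧸ V) = π h * (x.toMul : X ⧸ V) * (π h)⁻¹ :=
    fun h x => MulAut.conjNormal_apply _ _
  have hψP : ∀ x ∈ P, ψ x = 1 := fun x hx => DFunLike.ext _ _ fun e =>
    Additive.toMul.injective (Subtype.ext (by
      rw [hψ]
      exact mul_inv_eq_of_eq_mul (Subgroup.mem_centralizer_iff.1 (hPc x hx) _ e.toMul.2).symm))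
  have hMp : ∀ e : Additive W, p • e = 0 := fun e =>
    Additive.toMul.injective (Subtype.ext (by simpa using hexp _ e.toMul.2))
  have hp0 : (p : AddMonoid.End (Additive W)) = 0 :=
    DFunLike.ext _ _ fun x => by rw [AddMonoid.End.natCast_apply]; exact hMp x
  haveI : Nontrivial W := (Subgroup.nontrivial_iff_ne_bot W).2 hW1
  haveI : Nontrivial (AddMonoid.End (Additive W)) := by
    obtain ⟨x, hx⟩ := exists_ne (0 : Additive W)
    exact ⟨⟨1, 0, fun h => hx (DFunLike.congr_fun h x)⟩⟩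
  haveI : CharP (AddMonoid.End (Additive W)) p := by
    obtain ⟨c, hc⟩ := CharP.exists (AddMonoid.End (Additive W))
    have hd : c ∣ p := (CharP.cast_eq_zero_iff _ c p).1 hp0
    rcases (Nat.dvd_prime hp.out).1 hd with rfl | rfl
    · exact absurd rfl (CharP.char_ne_one (AddMonoid.End (Additive W)) 1)
    · exact hc
  -- a vector fixed by `A`
  obtain ⟨e₀, he₀, hefix⟩ : ∃ e₀ : Additive W, e₀ ≠ 0 ∧ ∀ b ∈ A, ψ b e₀ = e₀ := by
    let φ : A →* MulAut W := (MulAut.conjNormal.comp π).comp A.subtype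
    letI : MulAction A W := MulAction.compHom W φ
    have hdvd : p ∣ Nat.card W := by
      obtain ⟨n, hn⟩ := IsPGroup.iff_card.1 hWp
      rcases n with - | n
      · exact absurd (Subgroup.card_eq_one.1 (by simpa using hn)) hW1
      · exact hn ▸ dvd_pow_self p (Nat.succ_ne_zero n)
    obtain ⟨b, hb, hb1⟩ := hA.exists_fixed_point_of_prime_dvd_card_of_fixed_point W hdvd
      (a := 1) (fun g => map_one (φ g))
    exact ⟨Additive.ofMul b, fun h => hb1 (Additive.ofMul.injective h).symm,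
      fun c hc => congrArg Additive.ofMul (hb ⟨c, hc⟩)⟩
  -- the action of conjugation on `K` modulo `P`
  have hdisj : P ⊓ K = ⊥ := by
    obtain ⟨n, hn⟩ := IsPGroup.iff_card.1 hP
    refine Subgroup.inf_eq_bot_of_coprime ?_
    rw [hn]
    exact (hKp.pow_right n).symm
  have hex : ∀ x : X, ∀ k : K, ∃ k' : K, (k' : X)⁻¹ * (x * k * x⁻¹) ∈ P := by
    intro x k
    have h1 : x * k * x⁻¹ ∈ K ⊔ P := by
      rw [sup_comm]; exact hPK.conj_mem _ (Subgroup.mem_sup_right k.2) x
    obtain ⟨k', hk', q, hq, he⟩ := Subgroup.mem_sup_of_normal_right.1 h1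
    refine ⟨⟨k', hk'⟩, ?_⟩
    rw [← he, inv_mul_cancel_left]
    exact hq
  choose cst hcst using hex
  have huniq : ∀ (g : X) (k₁ k₂ : K), (k₁ : X)⁻¹ * g ∈ P → (k₂ : X)⁻¹ * g ∈ P → k₁ = k₂ := by
    intro g k₁ k₂ h1 h2
    have h3 := mul_mem h1 (inv_mem h2)
    rw [show (k₁ : X)⁻¹ * g * ((k₂ : X)⁻¹ * g)⁻¹ = (k₁ : X)⁻¹ * k₂ by group] at h3
    have h4 : (k₁ : X)⁻¹ * k₂ = 1 :=
      Subgroup.mem_bot.1 (hdisj.le (Subgroup.mem_inf.2 ⟨h3, mul_mem (inv_mem k₁.2) k₂.2⟩))
    exact Subtype.ext (inv_mul_eq_one.1 h4)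
  letI : CommGroup K := { (inferInstance : Group K) with
    mul_comm := fun x y => Subtype.ext (hKc x x.2 y y.2) }
  have hcmul : ∀ x (k l : K), cst x (k * l) = cst x k * cst x l := by
    intro x k l
    refine huniq _ _ _ (hcst x (k * l)) ?_
    have h1 := (inferInstance : P.Normal).conj_mem _ (hcst x k) ((cst x l : X))⁻¹
    have := mul_mem h1 (hcst x l)
    rw [inv_inv] at this
    rw [Subgroup.coe_mul, Subgroup.coe_mul]
    convert this using 1
    group
  have hψcst : ∀ x (k : K), ψ (x * k * x⁻¹) = ψ (cst x k) := by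
    intro x k
    conv_lhs => rw [← mul_inv_cancel_left (cst x k : X) (x * k * x⁻¹)]
    rw [map_mul, hψP _ (hcst x k), mul_one]
  set z := a ^ p ^ f with hz
  have hzA : z ∈ A := pow_mem ha _
  let σK : K →* K := MonoidHom.mk' (cst z) (hcmul z)
  obtain ⟨r, hr⟩ := IsPGroup.iff_orderOf.1 hA ⟨z, hzA⟩
  rw [Subgroup.orderOf_mk] at hr
  have hper : ∀ k, σK^[p ^ r] k = k := by
    intro k
    have h : ∀ i : ℕ, ((σK^[i] k : K) : X)⁻¹ * (z ^ i * k * (z ^ i)⁻¹) ∈ P := by
      intro i
      induction i with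
      | zero => simp
      | succ i ih =>
        rw [Function.iterate_succ_apply']
        show ((cst z (σK^[i] k) : K) : X)⁻¹ * _ ∈ P
        have := mul_mem (hcst z (σK^[i] k)) ((inferInstance : P.Normal).conj_mem _ ih z)
        convert this using 1
        rw [pow_succ']
        group
    refine huniq _ _ _ (h (p ^ r)) ?_
    rw [← hr, pow_orderOf_eq_one]
    simp
  -- the commutative ring generated by `K`
  set gen : Set (AddMonoid.End (Additive W)) := ψ '' (K : Set X) with hgen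
  have hgc : ∀ x ∈ gen, ∀ y ∈ gen, x * y = y * x := by
    rintro _ ⟨x, hx, rfl⟩ _ ⟨y, hy, rfl⟩
    rw [← map_mul, ← map_mul, hKc x hx y hy]
  set S := Subring.closure gen
  letI : CommRing S := Subring.closureCommRingOfComm hgc
  have hScomm : ∀ x ∈ S, ∀ y ∈ S, Commute x y := fun x hx y hy =>
    (congrArg Subtype.val (mul_comm (⟨x, hx⟩ : S) ⟨y, hy⟩) : x * y = y * x)
  have hσmem : ∀ x ∈ S, ψ z * x * ψ z⁻¹ ∈ S := by
    intro x hx
    induction hx using Subring.closure_induction with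
    | mem y hy =>
      obtain ⟨k, hk, rfl⟩ := hy
      rw [← map_mul, ← map_mul, hψcst z ⟨k, hk⟩]
      exact Subring.subset_closure ⟨_, (cst z ⟨k, hk⟩).2, rfl⟩
    | zero => simp
    | one => rw [mul_one, ← map_mul, mul_inv_cancel, map_one]; exact one_mem S
    | add x y _ _ hx hy => rw [mul_add, add_mul]; exact add_mem hx hy
    | neg x _ hx =>
      have e : ψ z * -x * ψ z⁻¹ = -(ψ z * x * ψ z⁻¹) := DFunLike.ext _ _ fun v => by
        show ψ z (-(x (ψ z⁻¹ v))) = -(ψ z (x (ψ z⁻¹ v)))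
        exact map_neg (ψ z) _
      rw [e]; exact neg_mem hx
    | mul x y _ _ hx hy =>
      have := mul_mem hx hy
      rwa [show ψ z * x * ψ z⁻¹ * (ψ z * y * ψ z⁻¹) = ψ z * (x * (ψ z⁻¹ * ψ z) * y) * ψ z⁻¹ by
        simp only [mul_assoc], ← map_mul ψ z⁻¹ z, inv_mul_cancel, map_one, mul_one] at this
  let σ : S →+* S :=
    { toFun := fun x => ⟨ψ z * x * ψ z⁻¹, hσmem x x.2⟩
      map_one' := Subtype.ext (by
        show ψ z * 1 * ψ z⁻¹ = 1
        rw [mul_one, ← map_mul, mul_inv_cancel, map_one])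
      map_zero' := Subtype.ext (by show ψ z * 0 * ψ z⁻¹ = 0; simp)
      map_add' := fun x y => Subtype.ext (by
        show ψ z * ((x : (AddMonoid.End (Additive W))) + y) * ψ z⁻¹ = _
        rw [mul_add, add_mul]; rfl)
      map_mul' := fun x y => Subtype.ext (by
        show ψ z * ((x : (AddMonoid.End (Additive W))) * y) * ψ z⁻¹ = ψ z * x * ψ z⁻¹ * (ψ z * y * ψ z⁻¹)
        rw [show ψ z * (x : (AddMonoid.End (Additive W))) * ψ z⁻¹ * (ψ z * y * ψ z⁻¹) =
          ψ z * ((x : (AddMonoid.End (Additive W))) * (ψ z⁻¹ * ψ z) * y) * ψ z⁻¹ by simp only [mul_assoc],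
          ← map_mul ψ z⁻¹ z, inv_mul_cancel, map_one, mul_one]) }
  have hzfix : ψ z e₀ = e₀ := hefix z hzA
  have hzifix : ψ z⁻¹ e₀ = e₀ := hefix _ (inv_mem hzA)
  let I : Ideal S :=
    { carrier := {s | (s : (AddMonoid.End (Additive W))) e₀ = 0}
      zero_mem' := rfl
      add_mem' := fun {x y} hx hy => by
        show (x : (AddMonoid.End (Additive W))) e₀ + (y : (AddMonoid.End (Additive W))) e₀ = 0
        rw [show (x : (AddMonoid.End (Additive W))) e₀ = 0 from hx, show (y : (AddMonoid.End (Additive W))) e₀ = 0 from hy, add_zero]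
      smul_mem' := fun c x hx => by
        show (c : (AddMonoid.End (Additive W))) ((x : (AddMonoid.End (Additive W))) e₀) = 0
        rw [show (x : (AddMonoid.End (Additive W))) e₀ = 0 from hx, map_zero] }
  have hσI : ∀ x ∈ I, σ x ∈ I := by
    intro x hx
    show ψ z ((x : (AddMonoid.End (Additive W))) (ψ z⁻¹ e₀)) = 0
    rw [hzifix, show (x : (AddMonoid.End (Additive W))) e₀ = 0 from hx, map_zero]
  obtain ⟨m, hm0, hm⟩ : ∃ m, 0 < m ∧ p ^ m ≡ 1 [MOD Nat.card K] := ⟨(Nat.card K).totient,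
    Nat.totient_pos.2 Nat.card_pos, Nat.ModEq.pow_totient hKp.symm⟩
  have hfix : ∀ x ∈ S, x ^ p ^ m = x := by
    intro x hx
    induction hx using Subring.closure_induction with
    | mem y hy =>
      obtain ⟨k, hk, rfl⟩ := hy
      rw [← map_pow]
      congr 1
      rw [← pow_mod_orderOf, show p ^ m % orderOf k = 1 % orderOf k from
        hm.of_dvd (Subgroup.orderOf_mk k hk ▸ orderOf_dvd_natCard _), pow_mod_orderOf, pow_one]
    | zero => exact zero_pow (pow_ne_zero _ hp.out.ne_zero)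
    | one => exact one_pow _
    | add x y hx' hy' hx hy =>
      rw [add_pow_char_pow_of_commute (p := p) (h := hScomm x hx' y hy'), hx, hy]
    | neg x _ hx =>
      have h := sub_pow_char_pow_of_commute (p := p) (n := m) (h := Commute.zero_left x)
      rwa [zero_pow (pow_ne_zero _ hp.out.ne_zero), zero_sub, zero_sub, hx] at h
    | mul x y hx' hy' hx hy => rw [(hScomm x hx' y hy').mul_pow, hx, hy]
  have hrad : I.IsRadical := by
    rintro x ⟨n, hn⟩
    have hit : ∀ j, (x : (AddMonoid.End (Additive W))) ^ (p ^ m) ^ j = x := by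
      intro j
      induction j with
      | zero => rw [pow_zero, pow_one]
      | succ j ih => rw [pow_succ, pow_mul, ih, hfix _ x.2]
    obtain ⟨c, hc⟩ := Nat.exists_eq_add_of_le'
      ((Nat.lt_pow_self (n := n) (Nat.one_lt_pow hm0.ne' hp.out.one_lt)).le)
    have e : x = x ^ c * x ^ n := Subtype.ext (by
      rw [← pow_add, SubmonoidClass.coe_pow, ← hc, hit])
    rw [e]
    exact I.mul_mem_left _ hn
  have h6 : IsUnit (6 : S) := by
    have hc6 : Nat.Coprime 6 p := by
      refine ((hp.out.coprime_iff_not_dvd).2 fun hd => ?_).symm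
      have h23 : p ∣ 2 ∨ p ∣ 3 := hp.out.dvd_mul.1 (by simpa using hd : p ∣ 2 * 3)
      rcases h23 with h | h <;> have := Nat.le_of_dvd (by norm_num) h <;> omega
    obtain ⟨c, -, hc⟩ := Nat.exists_mul_mod_eq_one_of_coprime hc6 hp.out.one_lt
    refine isUnit_iff_exists_inv.2 ⟨(c : S), ?_⟩
    have hpS : (p : S) = 0 := Subtype.ext (by push_cast; exact hp0)
    calc (6 : S) * c = ((6 * c : ℕ) : S) := by push_cast; ring
      _ = ((p * (6 * c / p) + 1 : ℕ) : S) := by rw [← hc]; rw [Nat.div_add_mod]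
      _ = 1 := by push_cast; rw [hpS]; ring
  -- some trace is moved with degree at least three
  obtain ⟨k, hk⟩ : ∃ k : K,
      (((ψ z - 1) ^ 3 : AddMonoid.End (Additive W))) ((ψ (k : X) + ψ ((k : X)⁻¹)) e₀) ≠ 0 := by
    by_contra hcon
    push Not at hcon
    let g : K →* S :=
      { toFun := fun k => ⟨ψ (k : X), Subring.subset_closure ⟨_, k.2, rfl⟩⟩
        map_one' := Subtype.ext (map_one ψ)
        map_mul' := fun x y => Subtype.ext (map_mul ψ (x : X) y) }
    have hσg : ∀ k, g (σK k) = σ (g k) := fun k => Subtype.ext (by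
      show ψ (cst z k : X) = ψ z * ψ (k : X) * ψ z⁻¹
      rw [← map_mul, ← map_mul, hψcst])
    have h2 := fixes_of_trace σ I g σK hσg ((Nat.Coprime.pow_left r
      ((hp.out.coprime_iff_not_dvd).2 fun hd => by
        have := Nat.le_of_dvd (by norm_num) hd; omega)).odd_of_right) hper hσI h6
      (fun x hx => hrad ⟨2, by rwa [sq]⟩) hrad fun k => by
        have h1 := hcon k
        set t := g k + g k⁻¹ with ht
        have et : (ψ (k : X) + ψ ((k : X)⁻¹)) = ((t : S) : (AddMonoid.End (Additive W))) := rfl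
        rw [et] at h1
        have hσ1 : ∀ s : S, (σ s : (AddMonoid.End (Additive W))) e₀ = ψ z ((s : (AddMonoid.End (Additive W))) e₀) := fun s => by
          show ψ z ((s : (AddMonoid.End (Additive W))) (ψ z⁻¹ e₀)) = _
          rw [hzifix]
        show ((σ (σ (σ t)) : (AddMonoid.End (Additive W))) - 3 * (σ (σ t) : (AddMonoid.End (Additive W))) + 3 * (σ t : (AddMonoid.End (Additive W))) - (t : (AddMonoid.End (Additive W)))) e₀ = 0
        rw [← h1]
        show (σ (σ (σ t)) : (AddMonoid.End (Additive W))) e₀ - (3 * (σ (σ t) : (AddMonoid.End (Additive W)))) e₀ + (3 * (σ t : (AddMonoid.End (Additive W)))) e₀ - (t : (AddMonoid.End (Additive W))) e₀ = _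
        have h3m : ∀ x : AddMonoid.End (Additive W), 3 * x = x + x + x := fun x => by
          rw [show (3 : AddMonoid.End (Additive W)) = 1 + 1 + 1 by norm_num, add_mul, add_mul,
            one_mul]
        have e3 : (ψ z - 1) ^ 3 = ψ z * ψ z * ψ z - (ψ z * ψ z + ψ z * ψ z + ψ z * ψ z) +
            (ψ z + ψ z + ψ z) - 1 := by
          simp only [pow_succ, pow_zero, one_mul, sub_mul, mul_sub, mul_one]; abel
        rw [e3, h3m, h3m]
        show (σ (σ (σ t)) : AddMonoid.End (Additive W)) e₀ - ((σ (σ t) : AddMonoid.End (Additive W)) e₀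
          + (σ (σ t) : AddMonoid.End (Additive W)) e₀ + (σ (σ t) : AddMonoid.End (Additive W)) e₀) +
          ((σ t : AddMonoid.End (Additive W)) e₀ + (σ t : AddMonoid.End (Additive W)) e₀ +
            (σ t : AddMonoid.End (Additive W)) e₀) - (t : AddMonoid.End (Additive W)) e₀ = _
        simp only [hσ1]
        rfl
    have hall : ∀ k : K, ψ (cst z k : X) e₀ = ψ (k : X) e₀ := fun k => by
      have h3 : (g (σK k) : (AddMonoid.End (Additive W))) e₀ - (g k : (AddMonoid.End (Additive W))) e₀ = 0 := h2 k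
      exact sub_eq_zero.1 h3
    -- every element of `K` is a commutator with `z`
    let δ : K → K := fun k => k⁻¹ * cst z k
    have hδ : Function.Bijective δ := by
      refine Finite.injective_iff_bijective.1 fun k₁ k₂ he => ?_
      have h4 : cst z (k₁ * k₂⁻¹) = k₁ * k₂⁻¹ := by
        have h5 : cst z k₂⁻¹ = (cst z k₂)⁻¹ := map_inv σK k₂
        rw [hcmul, h5]
        change k₁⁻¹ * cst z k₁ = k₂⁻¹ * cst z k₂ at he
        rw [← mul_inv_eq_iff_eq_mul] at he
        calc cst z k₁ * (cst z k₂)⁻¹ = k₁ * (k₁⁻¹ * cst z k₁ * (cst z k₂)⁻¹) := by group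
          _ = k₁ * k₂⁻¹ := by rw [he]
      have h6 := hcst z (k₁ * k₂⁻¹)
      rw [h4] at h6
      have h7 := hfpf _ (k₁ * k₂⁻¹).2 ((inferInstance : P.Normal).mem_comm h6 |> fun h => by
        rw [commutatorElement_def]; exact h)
      exact mul_inv_eq_one.1 (Subtype.ext h7)
    refine he₀ (Additive.toMul.injective (Subtype.ext (hfixK _ e₀.toMul.2 fun c hc => ?_)))
    obtain ⟨k, hk⟩ := hδ.2 ⟨c, hc⟩
    have h4 : ψ c e₀ = e₀ := by
      have h5 : (c : X) = (k : X)⁻¹ * (cst z k : X) := (congrArg Subtype.val hk).symm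
      rw [h5, map_mul]
      show ψ (k : X)⁻¹ (ψ (cst z k : X) e₀) = e₀
      rw [hall k]
      show (ψ (k : X)⁻¹ * ψ (k : X)) e₀ = e₀
      rw [← map_mul, inv_mul_cancel, map_one]
      rfl
    exact mul_inv_eq_iff_eq_mul.1 ((hψ c e₀).symm.trans (by rw [h4]))
  set y := (ψ (k : X) + ψ ((k : X)⁻¹)) e₀ with hy
  obtain ⟨w, hw, hwe⟩ : ∃ w ∈ U, π w = (e₀.toMul : X ⧸ V) := e₀.toMul.2
  set tr : X → X := fun g => (g * w * g⁻¹) * (g⁻¹ * w * g) with htr
  have hUc : ∀ g x, x ∈ U → g * x * g⁻¹ ∈ U := fun g x hx => hUn.conj_mem x hx g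
  have htrU : ∀ g, tr g ∈ U := fun g => mul_mem (hUc g w hw) (by simpa using hUc g⁻¹ w hw)
  have htrW : ∀ g, π (tr g) = (((ψ g + ψ g⁻¹) e₀).toMul : X ⧸ V) := fun g => by
    show π ((g * w * g⁻¹) * (g⁻¹ * w * g)) = ((ψ g e₀).toMul : X ⧸ V) * ((ψ g⁻¹ e₀).toMul : X ⧸ V)
    rw [hψ, hψ]
    simp only [map_mul, map_inv, inv_inv, hwe]
  set yh := tr k with hyh
  have hyU : yh ∈ U := htrU k
  have hyW : π yh = (y.toMul : X ⧸ V) := htrW k
  set c : ℕ → X := fun i => a ^ i * yh * (a ^ i)⁻¹ with hc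
  have hcU : ∀ i, c i ∈ U := fun i => hUc _ _ hyU
  have hcW : ∀ i, π (c i) = ((ψ (a ^ i) y).toMul : X ⧸ V) := fun i => by
    rw [hψ, ← hyW]
    simp only [hc, map_mul, map_inv]
  have hccomm : ∀ i j, Commute (c i) (c j) := by
    intro i j
    have hrep : ∀ i, ∃ v ∈ V, c i = tr (cst (a ^ i) k : X) * v := by
      intro i
      refine ⟨(tr (cst (a ^ i) k : X))⁻¹ * c i, (QuotientGroup.eq).1 ?_, by group⟩
      show π (tr (cst (a ^ i) k : X)) = π (c i)
      rw [htrW, hcW]
      have hinv : ψ ((cst (a ^ i) k : X)⁻¹) = ψ (a ^ i * (k : X)⁻¹ * (a ^ i)⁻¹) := by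
        have h1 : cst (a ^ i) k⁻¹ = (cst (a ^ i) k)⁻¹ :=
          map_inv (MonoidHom.mk' (cst (a ^ i)) (hcmul _)) k
        rw [show (k : X)⁻¹ = ((k⁻¹ : K) : X) from rfl, hψcst, h1]
        rfl
      have key : (ψ (cst (a ^ i) k : X) + ψ ((cst (a ^ i) k : X)⁻¹)) e₀ = ψ (a ^ i) y := by
        rw [hinv, ← hψcst]
        show ψ (a ^ i * k * (a ^ i)⁻¹) e₀ + ψ (a ^ i * (k : X)⁻¹ * (a ^ i)⁻¹) e₀ = _
        rw [map_mul, map_mul, map_mul, map_mul]
        show ψ (a ^ i) (ψ (k : X) (ψ (a ^ i)⁻¹ e₀)) + ψ (a ^ i) (ψ (k : X)⁻¹ (ψ (a ^ i)⁻¹ e₀)) = _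
        rw [hefix _ (inv_mem (pow_mem ha i)), ← map_add]
        rfl
      rw [key]
    obtain ⟨v₁, hv₁, e₁⟩ := hrep i
    obtain ⟨v₂, hv₂, e₂⟩ := hrep j
    have hv₁c : ∀ u ∈ U, Commute v₁ u := fun u hu => (hUV u hu v₁ hv₁).symm
    have hv₂c : ∀ u ∈ U, Commute v₂ u := fun u hu => (hUV u hu v₂ hv₂).symm
    rw [e₁, e₂]
    refine Commute.mul_left (Commute.mul_right ?_ ?_) (Commute.mul_right ?_ ?_)
    · exact traces_commute hUV (fun x hx y hy => hcen
        (Subgroup.commutator_mem_commutator hx (hUP hy))) (fun g _ x hx => hUc g x hx)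
        (fun g hg v hv => (Subgroup.mem_centralizer_iff.1 (hVK hg) v hv).symm) hKc hw
        (cst (a ^ i) k).2 (cst (a ^ j) k).2
    · exact (hv₂c _ (htrU _)).symm
    · exact hv₁c _ (htrU _)
    · exact hv₁c _ (hVU.le hv₂)
  -- the abelian subgroup
  set D := A ⊓ P
  set Cv := V ⊓ Subgroup.centralizer (A : Set X)
  set fy : X → X := fun d => ⁅d, yh⁆ with hfy
  have hfV : ∀ d ∈ D, fy d ∈ V := fun d hd => by
    refine hcen ?_
    rw [Subgroup.commutator_comm]
    exact Subgroup.commutator_mem_commutator hd.2 hyU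
  have hfmul : ∀ d₁ d₂ : X, fy (d₁ * d₂) = d₁ * fy d₂ * d₁⁻¹ * fy d₁ := fun d₁ d₂ => by
    simp [hfy, commutatorElement_def, mul_assoc]
  have hVV : ∀ x ∈ V, ∀ y ∈ V, x * y = y * x := fun x hx y hy => hUV x (hVU.le hx) y hy
  have hCfix : ∀ b ∈ A, ∀ v ∈ Cv, b * v * b⁻¹ = v := fun b hb v hv => by
    rw [Subgroup.mem_centralizer_iff.1 hv.2 b hb, mul_inv_cancel_right]
  let D₁ : Subgroup X :=
    { carrier := {d | d ∈ D ∧ fy d ∈ Cv}
      one_mem' := ⟨one_mem _, by simp [hfy]⟩
      mul_mem' := fun {d₁ d₂} h1 h2 => ⟨mul_mem h1.1 h2.1, by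
        rw [hfmul, hCfix d₁ h1.1.1 _ h2.2]; exact mul_mem h2.2 h1.2⟩
      inv_mem' := fun {d} hd => ⟨inv_mem hd.1, by
        have h := hfmul d⁻¹ d
        rw [inv_mul_cancel, hCfix d⁻¹ (inv_mem hd.1.1) _ hd.2] at h
        have h1 : fy 1 = 1 := by simp [hfy]
        rw [h1] at h
        rw [eq_inv_of_mul_eq_one_right h.symm]
        exact inv_mem hd.2⟩ }
  have hD₁f : ∀ d₁ ∈ D₁, ∀ d ∈ D, d₁ * fy d * d₁⁻¹ = fy d := by
    intro d₁ h1 d hd
    have h2 : fy (d₁ * d) = fy (d * d₁) := by rw [hAc d₁ h1.1.1 d hd.1]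
    rw [hfmul, hfmul, hCfix d hd.1 _ h1.2, hVV _ (hfV d₁ h1.1) _ (hfV d hd)] at h2
    exact mul_right_cancel h2
  set H := Subgroup.closure (fy '' (D : Set X) ∪ (Cv : Set X)) with hH
  have hHV : H ≤ V := by
    rw [hH, Subgroup.closure_le]
    rintro x (⟨d, hd, rfl⟩ | hx)
    · exact hfV d hd
    · exact hx.1
  have hD₁H : D₁ ≤ Subgroup.centralizer (H : Set X) := by
    rw [Subgroup.le_centralizer_iff, hH, Subgroup.closure_le]
    rintro x (⟨d, hd, rfl⟩ | hx) <;> refine Subgroup.mem_centralizer_iff.2 fun b hb => ?_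
    · exact mul_inv_eq_iff_eq_mul.1 (hD₁f b hb d hd)
    · exact Subgroup.mem_centralizer_iff.1 hx.2 b hb.1.1
  have hD₁y : ∀ d ∈ D₁, ∀ i : ℕ, d * (yh⁻¹ * c i) * d⁻¹ = yh⁻¹ * c i := by
    intro d hd i
    have h1 : d * c i * d⁻¹ = fy d * c i := by
      have hcomm := hAc d hd.1.1 (a ^ i) (pow_mem ha i)
      calc d * c i * d⁻¹ = (d * a ^ i) * yh * (d * a ^ i)⁻¹ := by simp only [hc]; group
        _ = a ^ i * (fy d * yh) * (a ^ i)⁻¹ := by
            rw [hcomm]; simp [hfy, commutatorElement_def, mul_assoc]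
        _ = (a ^ i * fy d * (a ^ i)⁻¹) * c i := by simp only [hc]; group
        _ = _ := by rw [hCfix _ (pow_mem ha i) _ hd.2]
    have h0 : d * yh * d⁻¹ = fy d * yh := by simp [hfy, commutatorElement_def, mul_assoc]
    calc d * (yh⁻¹ * c i) * d⁻¹ = (d * yh * d⁻¹)⁻¹ * (d * c i * d⁻¹) := by group
      _ = _ := by rw [h0, h1]; group
  set E := Subgroup.closure ((D₁ : Set X) ∪ (H : Set X) ∪ Set.range (fun i => yh⁻¹ * c i)) with hE
  have huU : ∀ i, yh⁻¹ * c i ∈ U := fun i => mul_mem (inv_mem hyU) (hcU i)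
  have hc0 : c 0 = yh := by simp [hc]
  have hEc : ∀ x ∈ E, ∀ y ∈ E, x * y = y * x := by
    haveI : IsMulCommutative E := by
      refine Subgroup.isMulCommutative_closure ?_
      have huu : ∀ i j, (yh⁻¹ * c i) * (yh⁻¹ * c j) = (yh⁻¹ * c j) * (yh⁻¹ * c i) := by
        intro i j
        rw [← hc0]
        exact (Commute.mul_left (Commute.mul_right ((hccomm 0 0).inv_inv) ((hccomm 0 j).inv_left))
          (Commute.mul_right ((hccomm i 0).inv_right) (hccomm i j))).eq
      have hdd : ∀ d ∈ D₁, ∀ h ∈ H, d * h = h * d := fun d hd h hh =>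
        (Subgroup.mem_centralizer_iff.1 (hD₁H hd) h hh).symm
      have hdu : ∀ d ∈ D₁, ∀ i, d * (yh⁻¹ * c i) = (yh⁻¹ * c i) * d := fun d hd i =>
        mul_inv_eq_iff_eq_mul.1 (hD₁y d hd i)
      rintro x ((hx | hx) | ⟨i, rfl⟩) y ((hy | hy) | ⟨j, rfl⟩)
      · exact hAc x hx.1.1 y hy.1.1
      · exact hdd x hx y hy
      · exact hdu x hx j
      · exact (hdd y hy x hx).symm
      · exact hVV x (hHV hx) y (hHV hy)
      · exact (hUV _ (huU j) x (hHV hx)).symm
      · exact (hdu y hy i).symm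
      · exact hUV _ (huU i) y (hHV hy)
      · exact huu i j
    exact fun x hx y hy => congrArg Subtype.val
      (IsMulCommutative.is_comm.comm (⟨x, hx⟩ : E) ⟨y, hy⟩)
  have hEP : E ≤ P := by
    rw [hE, Subgroup.closure_le]
    rintro x ((hx | hx) | ⟨i, rfl⟩)
    · exact hx.1.2
    · exact hUP (hVU.le (hHV hx))
    · exact hUP (huU i)
  have hEcard := hmax E (hEP.trans le_sup_left) hEc
  -- the fixed part
  have hCvA : Cv ≤ A := by
    set B := Subgroup.closure ((A : Set X) ∪ (Cv : Set X)) with hB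
    have hBc : IsMulCommutative B := Subgroup.isMulCommutative_closure (by
      rintro x (hx | hx) y (hy | hy)
      · exact hAc x hx y hy
      · exact Subgroup.mem_centralizer_iff.1 hy.2 x hx
      · exact (Subgroup.mem_centralizer_iff.1 hx.2 y hy).symm
      · exact hVV x hx.1 y hy.1)
    have hAB : A ≤ B := fun x hx => Subgroup.subset_closure (Or.inl hx)
    have h1 := hmax B (by
      rw [hB, Subgroup.closure_le]
      rintro x (hx | hx)
      · exact Subgroup.mem_sup_right hx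
      · exact Subgroup.mem_sup_left (hUP (hVU.le hx.1))) fun x hx y hy =>
        congrArg Subtype.val (hBc.is_comm.comm (⟨x, hx⟩ : B) ⟨y, hy⟩)
    rw [Subgroup.eq_of_le_of_card_ge hAB h1]
    exact fun x hx => Subgroup.subset_closure (Or.inr hx)
  set E₀ := H ⊔ D₁
  have hE₀E : E₀ ≤ E := sup_le (fun x hx => Subgroup.subset_closure (.inl (.inr hx)))
    (fun x hx => Subgroup.subset_closure (.inl (.inl hx)))
  have hE₀card : Nat.card D ≤ Nat.card E₀ := by
    have h1 := card_sup_mul_card_inf' H D₁ (hD₁H.trans (Subgroup.centralizer_le_normalizer _))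
    have h2 : Nat.card (H ⊓ D₁ : Subgroup X) ≤ Nat.card Cv := Subgroup.card_le_of_le
      (le_inf (inf_le_left.trans hHV) (inf_le_right.trans fun d hd =>
        Subgroup.mem_centralizer_iff.2 fun b hb => (hAc b hb d hd.1.1)))
    have hD₁D : D₁ ≤ D := fun d hd => hd.1
    have h3 : D₁.relIndex D * Nat.card Cv ≤ Nat.card H := by
      let φ : (D ⧸ D₁.subgroupOf D) × Cv → H := fun q =>
        ⟨fy (q.1.out : X) * q.2, H.mul_mem
          (Subgroup.subset_closure (Or.inl ⟨_, q.1.out.2, rfl⟩))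
          (Subgroup.subset_closure (Or.inr q.2.2))⟩
      have hφ : Function.Injective φ := by
        rintro ⟨q₁, c₁⟩ ⟨q₂, c₂⟩ he
        have he' : fy (q₁.out : X) * c₁ = fy (q₂.out : X) * c₂ := congrArg Subtype.val he
        set d₁ : X := (q₁.out : X)
        set d₂ : X := (q₂.out : X)
        have hd₁ : d₁ ∈ D := q₁.out.2
        have hd₂ : d₂ ∈ D := q₂.out.2
        have hq : q₁ = q₂ := by
          rw [← QuotientGroup.out_eq' q₁, ← QuotientGroup.out_eq' q₂]
          refine QuotientGroup.eq.2 (Subgroup.mem_subgroupOf.2 ⟨(q₁.out⁻¹ * q₂.out).2, ?_⟩)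
          show fy (d₁⁻¹ * d₂) ∈ Cv
          have hq12 : (fy d₁)⁻¹ * fy d₂ ∈ Cv := by
            rw [show (fy d₁)⁻¹ * fy d₂ = (c₁ : X) * (c₂ : X)⁻¹ by
              rw [eq_mul_inv_iff_mul_eq, mul_assoc, inv_mul_eq_iff_eq_mul, he']]
            exact mul_mem c₁.2 (inv_mem c₂.2)
          have e : d₁ * fy (d₁⁻¹ * d₂) * d₁⁻¹ = fy d₂ * (fy d₁)⁻¹ := by
            rw [eq_mul_inv_iff_mul_eq, ← hfmul, mul_inv_cancel_left]
          rw [hVV _ (hfV d₂ hd₂) _ (inv_mem (hfV d₁ hd₁))] at e
          have h5 : fy (d₁⁻¹ * d₂) = d₁⁻¹ * ((fy d₁)⁻¹ * fy d₂) * d₁⁻¹⁻¹ := by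
            rw [← e]; group
          rw [h5, hCfix _ (inv_mem hd₁.1) _ hq12]
          exact hq12
        subst hq
        exact Prod.ext rfl (Subtype.ext (mul_left_cancel he'))
      have := Nat.card_le_card_of_injective φ hφ
      rwa [Nat.card_prod] at this
    have h4 := relIndex_mul_card hD₁D
    refine Nat.le_of_mul_le_mul_right (c := Nat.card Cv) ?_ Nat.card_pos
    calc Nat.card D * Nat.card Cv = Nat.card D₁ * (D₁.relIndex D * Nat.card Cv) := by
          rw [← h4, mul_assoc]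
      _ ≤ Nat.card D₁ * Nat.card H := Nat.mul_le_mul_left _ h3
      _ = Nat.card E₀ * Nat.card (H ⊓ D₁ : Subgroup X) := by rw [h1, mul_comm]
      _ ≤ Nat.card E₀ * Nat.card Cv := Nat.mul_le_mul_left _ h2
  -- the free part
  set N : (AddMonoid.End (Additive W)) := ψ a - 1 with hN
  let Φ : (E ⊓ U : Subgroup X) →* Multiplicative (Additive W) :=
    { toFun := fun x => Multiplicative.ofAdd (N (Additive.ofMul ⟨π (x : X), ⟨_, x.2.2, rfl⟩⟩))
      map_one' := by
        rw [← ofAdd_zero, ← map_zero N]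
        refine congrArg Multiplicative.ofAdd (congrArg N ?_)
        exact Additive.toMul.injective (Subtype.ext (map_one π))
      map_mul' := fun x y => by
        rw [← ofAdd_add, ← map_add]
        refine congrArg Multiplicative.ofAdd (congrArg N ?_)
        exact Additive.toMul.injective (Subtype.ext (map_mul π _ _)) }
  have hkerΦ : ∀ x : (E ⊓ U : Subgroup X), (x : X) ∈ E₀ → Φ x = 1 := by
    intro x hx
    rw [← ofAdd_zero]
    show Multiplicative.ofAdd _ = _
    congr 1
    show ψ a _ - _ = 0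
    rw [sub_eq_zero]
    refine Additive.toMul.injective (Subtype.ext ?_)
    rw [hψ]
    obtain ⟨h, hh, d, hd, he⟩ := exists_mul_of_mem_sup' hD₁H hx
    show π a * π (x : X) * (π a)⁻¹ = π (x : X)
    have hh0 : π h = 1 := (QuotientGroup.eq_one_iff h).2 (hHV hh)
    rw [← he, map_mul, hh0, one_mul, ← map_mul, hAc a ha d hd.1.1, map_mul, mul_inv_cancel_right]
  set Y : AddSubgroup (Additive W) := AddSubgroup.closure {x | ∃ i, 2 ≤ i ∧ x = (N ^ i) y}
  have hrange : Nat.card Y ≤ Nat.card Φ.range := by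
    let Y₁ : AddSubgroup (Additive W) := Subgroup.toAddSubgroup' Φ.range
    have hu : ∀ i, N (ψ (a ^ i) y - y) ∈ Y₁ := fun i => by
      refine ⟨⟨yh⁻¹ * c i, Subgroup.subset_closure (.inr ⟨i, rfl⟩), huU i⟩, ?_⟩
      show Multiplicative.ofAdd _ = Multiplicative.ofAdd _
      congr 2
      refine Additive.toMul.injective (Subtype.ext ?_)
      show π (yh⁻¹ * c i) = ((ψ (a ^ i) y - y).toMul : X ⧸ V)
      rw [map_mul, map_inv, hyW, hcW, toMul_sub, Subgroup.coe_div, div_eq_mul_inv]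
      exact habW _ (inv_mem y.toMul.2) _ (ψ (a ^ i) y).toMul.2
    have hj : ∀ j i, N ((N ^ j) (ψ (a ^ i) y - y)) ∈ Y₁ := by
      intro j
      induction j with
      | zero => exact hu
      | succ j ih =>
        intro i
        have e : (N ^ (j + 1)) (ψ (a ^ i) y - y) = (N ^ j) (ψ (a ^ (i + 1)) y - y) -
            (N ^ j) (ψ (a ^ 1) y - y) - (N ^ j) (ψ (a ^ i) y - y) := by
          rw [← map_sub, ← map_sub, pow_succ]
          show (N ^ j) (N (ψ (a ^ i) y - y)) = _
          congr 1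
          rw [hN]
          show ψ a (ψ (a ^ i) y - y) - (ψ (a ^ i) y - y) = _
          rw [map_sub, pow_one, pow_succ', map_mul]
          show ψ a (ψ (a ^ i) y) - ψ a y - _ = ψ a (ψ (a ^ i) y) - y - _ - _
          abel
        rw [e, map_sub, map_sub]
        exact sub_mem (sub_mem (ih (i + 1)) (ih 1)) (ih i)
    have hle : Y ≤ Y₁ := (AddSubgroup.closure_le _).2 fun x ⟨i, hi, he⟩ => by
      subst he
      obtain ⟨j, rfl⟩ := Nat.exists_eq_add_of_le' hi
      have := hj j 1
      rw [pow_one] at this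
      rw [show j + 2 = (j + 1) + 1 by omega, pow_succ' N (j + 1), pow_succ N j]
      exact this
    exact AddSubgroup.card_le_of_le hle
  obtain ⟨r', hr'⟩ := IsPGroup.iff_orderOf.1 hA ⟨a, ha⟩
  rw [Subgroup.orderOf_mk] at hr'
  have hNnil : N ^ p ^ r' = 0 := by
    rw [hN, sub_pow_char_pow_of_commute (p := p) (h := Commute.one_right _), ← map_pow, ← hr',
      pow_orderOf_eq_one, map_one, one_pow, sub_self]
  have hdepth : (N ^ (2 + (3 * p ^ f - 2))) y ≠ 0 := by
    have h1 : 2 ≤ 3 * p ^ f := by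
      have := Nat.one_le_pow f p hp.out.pos
      omega
    rw [Nat.add_sub_cancel' h1, mul_comm, pow_mul, hN,
      sub_pow_char_pow_of_commute (p := p) (h := Commute.one_right _), ← map_pow, one_pow]
    exact hk
  have hY := pow_le_card_chain hMp N hNnil y (3 * p ^ f - 2) 2 hdepth
  have hrel : Nat.card Φ.range ≤ E₀.relIndex E := by
    have h1 : Nat.card Φ.range ≤ E₀.relIndex (E ⊓ U) := by
      rw [← Subgroup.index_ker]
      exact Nat.le_of_dvd (Nat.pos_of_ne_zero Subgroup.index_ne_zero_of_finite)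
        (Subgroup.index_dvd_of_le fun x hx => hkerΦ x hx)
    exact h1.trans (Subgroup.relIndex_le_of_le_right inf_le_left
      (Subgroup.index_ne_zero_of_finite))
  have hAcard := relIndex_mul_card (X := X) (inf_le_left : A ⊓ P ≤ A)
  have hEeq := relIndex_mul_card hE₀E
  have hexpo : p ^ (f + 2) ≤ E₀.relIndex E := by
    refine le_trans ?_ (hY.trans (hrange.trans hrel))
    refine Nat.pow_le_pow_right hp.out.pos ?_
    have h2 : f + 1 ≤ p ^ f := Nat.lt_pow_self hp.out.one_lt
    omega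
  have h5 : Nat.card D * p ^ (f + 2) ≤ Nat.card D * p ^ (f + 1) :=
    calc Nat.card D * p ^ (f + 2) ≤ Nat.card E₀ * E₀.relIndex E := Nat.mul_le_mul hE₀card hexpo
      _ = Nat.card E := hEeq
      _ ≤ Nat.card A := hEcard
      _ = Nat.card D * D.relIndex A := hAcard.symm
      _ ≤ _ := Nat.mul_le_mul_left _ hidx
  have h6' := Nat.le_of_mul_le_mul_left h5 Nat.card_pos
  exact absurd h6' (not_le.2 (Nat.pow_lt_pow_right hp.out.one_lt (by omega)))

end Cfsg.Agent.Solv.JNPC
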