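import Cfsg.Agent.Lib.Solv.JNPC.Core
import Cfsg.Agent.Lib.Solv.Generation
import Cfsg.Agent.Lib.Fusion.CoprimeAbelian
import Cfsg.Agent.Lib.Local.FS.ThompsonFour

/-!
# The abelian Thompson subgroup of a maximal Sylow subgroup, `p` at least five
-/

set_option autoImplicit false
set_option linter.style.haveILetI false
set_option maxHeartbeats 800000

open scoped commutatorElement
open Cfsg.Agent.Fusion

namespace Cfsg.Agent.Solv.JNPC

variable {p : ℕ} [hp : Fact p.Prime]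

/-- Abelian subgroups of largest order of a Sylow subgroup lie in the core when the quotient by
the core has an abelian normal complement. -/
theorem maxAbelian_le_core (hp5 : 5 ≤ p) {X : Type*} [Group X] [Finite X]
    (hC : Subgroup.centralizer (pCore p X : Set X) ≤ pCore p X) {T : Subgroup X}
    (hT : SylIn p T ⊤) {R : Subgroup (X ⧸ pCore p X)} [hRn : R.Normal]
    (hRp : (Nat.card R).Coprime p) (hRc : ∀ x ∈ R, ∀ y ∈ R, x * y = y * x)
    (hRT : R ⊔ T.map (QuotientGroup.mk' (pCore p X)) = ⊤)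
    {A : Subgroup X} (hAT : A ≤ T) (hAc : ∀ x ∈ A, ∀ y ∈ A, x * y = y * x)
    (hmax : ∀ B : Subgroup X, B ≤ T → (∀ x ∈ B, ∀ y ∈ B, x * y = y * x) →
      Nat.card B ≤ Nat.card A) : A ≤ pCore p X := by
  classical
  by_contra hAQ
  set Q := pCore p X
  have hQT : Q ≤ T := pCore_le_sylIn hT
  have hQp : IsPGroup p Q := isPGroup_pCore p X
  have hAp : IsPGroup p A := hT.isPGroup.to_le hAT
  set ρ := QuotientGroup.mk' Q
  have hρ : Function.Surjective ρ := QuotientGroup.mk'_surjective Q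
  set Ab := A.map ρ
  have hAbT : Ab ≤ T.map ρ := Subgroup.map_mono hAT
  have hAbp : IsPGroup p Ab := hAp.map ρ
  have hAbc : ∀ x ∈ Ab, ∀ y ∈ Ab, x * y = y * x := by
    rintro _ ⟨x, hx, rfl⟩ _ ⟨y, hy, rfl⟩
    rw [← map_mul, ← map_mul, hAc x hx y hy]
  have hAbco : ∀ K : Subgroup (X ⧸ Q), K ≤ R → (Nat.card Ab).Coprime (Nat.card K) := by
    intro K hK
    obtain ⟨n, hn⟩ := IsPGroup.iff_card.1 hAbp
    rw [hn]
    exact ((hRp.coprime_dvd_left (Subgroup.card_dvd_of_le hK)).symm.pow_left n)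
  have hRne : ⁅R, Ab⁆ ≠ ⊥ := by
    intro h
    set C := T.map ρ ⊓ Subgroup.centralizer (R : Set (X ⧸ Q))
    haveI : (Subgroup.centralizer (R : Set (X ⧸ Q))).Normal := Subgroup.normal_centralizer (H := R)
    have hCn : C.Normal := by
      refine Subgroup.normalizer_eq_top_iff.1 (top_le_iff.1 (hRT.ge.trans (sup_le ?_ ?_)))
      · intro r hr
        refine mem_normalizer_of_cj_le ?_
        rintro _ ⟨x, hx, rfl⟩
        show r * x * r⁻¹ ∈ C
        rw [Subgroup.mem_centralizer_iff.1 hx.2 r hr, mul_inv_cancel_right]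
        exact hx
      · intro t ht
        refine mem_normalizer_of_cj_le ?_
        rintro _ ⟨x, hx, rfl⟩
        exact ⟨(T.map ρ).mul_mem ((T.map ρ).mul_mem ht hx.1) ((T.map ρ).inv_mem ht),
          (inferInstance : (Subgroup.centralizer (R : Set (X ⧸ Q))).Normal).conj_mem x hx.2 t⟩
    have h1 : C ≤ ⊥ := by
      rw [← pCore_quotient_eq_bot (p := p) (G := X)]
      exact le_pCore ((hT.isPGroup.map ρ).to_le inf_le_left)
    refine hAQ ?_
    have h2 : Ab ≤ ⊥ := (le_inf hAbT (by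
      rwa [Subgroup.le_centralizer_iff, ← Subgroup.commutator_eq_bot_iff_le_centralizer])).trans h1
    rw [le_bot_iff, Subgroup.map_eq_bot_iff, QuotientGroup.ker_mk'] at h2
    exact h2
  -- a minimal invariant subgroup of the complement
  obtain ⟨K₁, ⟨hK₁R, hK₁A, hK₁ne⟩, hK₁min⟩ := Set.exists_min_image
    {K : Subgroup (X ⧸ Q) | K ≤ R ∧ Ab ≤ Subgroup.normalizer (K : Set (X ⧸ Q)) ∧ ⁅K, Ab⁆ ≠ ⊥}
    (fun K : Subgroup (X ⧸ Q) => Nat.card K) (Set.toFinite _)
    ⟨R, le_rfl, by rw [Subgroup.normalizer_eq_top]; exact le_top, hRne⟩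
  have hsmall : ∀ K, K < K₁ → Ab ≤ Subgroup.normalizer (K : Set (X ⧸ Q)) → ⁅K, Ab⁆ = ⊥ := by
    intro K hK hKA
    by_contra h
    exact hK.ne (Subgroup.eq_of_le_of_card_ge hK.le (hK₁min K ⟨hK.le.trans hK₁R, hKA, h⟩))
  have hsolA : Group.IsSolvable Ab :=
    Group.isSolvable_of_comm fun s t => Subtype.ext (hAbc s s.2 t t.2)
  obtain ⟨hcle, -, hcA⟩ := commutator_normal_in hK₁A
  have hK₁eq : ⁅K₁, Ab⁆ = K₁ := by
    by_contra h
    have h1 := hsmall _ (lt_of_le_of_ne hcle h) hcA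
    rw [commutator_commutator_eq hK₁A (hAbco K₁ hK₁R) (Or.inl hsolA)] at h1
    exact hK₁ne h1
  have hK₁fix : ∀ x ∈ K₁, (∀ y ∈ Ab, y * x = x * y) → x = 1 := by
    intro x hx hfix
    set Y := K₁ ⊔ Ab
    haveI : (K₁.subgroupOf Y).Normal :=
      Subgroup.normal_subgroupOf_of_le_normalizer (sup_le Subgroup.le_normalizer hK₁A)
    haveI : ((⊥ : Subgroup Y).subgroupOf (Ab.subgroupOf Y)).Normal := by
      rw [Subgroup.bot_subgroupOf]; infer_instance
    have hx' : (⟨x, Subgroup.mem_sup_left hx⟩ : Y) ∈ ⁅K₁.subgroupOf Y, Ab.subgroupOf Y⁆ := by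
      have h1 : x ∈ ⁅(K₁.subgroupOf Y).map Y.subtype, (Ab.subgroupOf Y).map Y.subtype⁆ := by
        rwa [Subgroup.map_subgroupOf_eq_of_le le_sup_left,
          Subgroup.map_subgroupOf_eq_of_le le_sup_right, hK₁eq]
      rw [← Subgroup.map_commutator] at h1
      obtain ⟨y, hy, he⟩ := h1
      rwa [show (⟨x, Subgroup.mem_sup_left hx⟩ : Y) = y from Subtype.ext he.symm]
    have h := eq_one_of_fixed_commutator (A := K₁.subgroupOf Y) (N := Ab.subgroupOf Y) (N₀ := ⊥)
      ⟨⟨fun a b => Subtype.ext (Subtype.ext (hRc _ (hK₁R a.2) _ (hK₁R b.2)))⟩⟩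
      (fun n hn a _ => by rw [Subgroup.mem_bot.1 hn]; group)
      (by
        rw [Subgroup.relIndex_bot_left, card_subgroupOf le_sup_left, card_subgroupOf le_sup_right]
        exact (hAbco K₁ hK₁R).symm)
      hx' (fun n hn => Subtype.ext (by
        show (n : X ⧸ Q) * x * (n : X ⧸ Q)⁻¹ = x
        exact mul_inv_eq_of_eq_mul (hfix _ hn)))
    exact congrArg Subtype.val h
  have hfpf : ∀ y ∈ Ab, y ∉ Subgroup.centralizer (K₁ : Set (X ⧸ Q)) →
      ∀ x ∈ K₁, y * x = x * y → x = 1 := by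
    intro y hy hyK x hx hxy
    set Cy := K₁ ⊓ Subgroup.centralizer ({y} : Set (X ⧸ Q))
    have hCA : Ab ≤ Subgroup.normalizer (Cy : Set (X ⧸ Q)) := by
      intro b hb
      refine mem_normalizer_of_cj_le ?_
      rintro _ ⟨c, hc, rfl⟩
      refine ⟨conj_mem_of_mem_normalizer (hK₁A hb) hc.1, Subgroup.mem_centralizer_iff.2 ?_⟩
      intro w hw
      rw [Set.mem_singleton_iff.1 hw]
      have hcy : y * c = c * y := Subgroup.mem_centralizer_iff.1 hc.2 y rfl
      show y * (b * c * b⁻¹) = b * c * b⁻¹ * y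
      have hby : Commute y b := hAbc y hy b hb
      calc y * (b * c * b⁻¹) = (y * b) * c * b⁻¹ := by group
        _ = b * (y * c) * b⁻¹ := by rw [hby.eq]; group
        _ = b * c * (y * b⁻¹) := by rw [hcy]; group
        _ = _ := by rw [hby.inv_right.eq]; group
    rcases (inf_le_left : Cy ≤ K₁).eq_or_lt with h | h
    · exfalso
      refine hyK (Subgroup.mem_centralizer_iff.2 fun k hk => ?_)
      exact (Subgroup.mem_centralizer_iff.1 (h.ge hk).2 y rfl).symm
    · refine hK₁fix x hx fun b hb => ?_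
      have h1 := Subgroup.commutator_eq_bot_iff_le_centralizer.1 (hsmall Cy h hCA)
      exact Subgroup.mem_centralizer_iff.1 (h1 ⟨hx, Subgroup.mem_centralizer_iff.2 fun w hw => by
        rw [Set.mem_singleton_iff.1 hw]; exact hxy⟩) b hb
  -- the image of `A` is cyclic on it
  obtain ⟨ab, hab, hcyc⟩ : ∃ a ∈ Ab,
      (Ab ⊓ Subgroup.centralizer (K₁ : Set (X ⧸ Q))) ⊔ Subgroup.zpowers a = Ab := by
    by_contra hcon
    push Not at hcon
    have hgen := gen_eq Ab K₁ ⟨⟨fun s t => Subtype.ext (hAbc s s.2 t t.2)⟩⟩ hK₁A (hAbco K₁ hK₁R)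
    refine hK₁ne ?_
    suffices h : K₁ ≤ ⊥ by
      rw [le_bot_iff.1 h]; exact Subgroup.commutator_bot_left _
    refine hgen.ge.trans (iSup₂_le fun B hB x hx => Subgroup.mem_bot.2 ?_)
    obtain ⟨hBA, b, hb, hBb⟩ := hB
    by_contra hx1
    refine hcon b hb (le_antisymm (sup_le inf_le_left (Subgroup.zpowers_le.2 hb)) ?_)
    refine hBb.ge.trans (sup_le_sup_right (le_inf hBA fun y hy => ?_) _)
    by_contra hyK
    exact hx1 (hfpf y (hBA hy) hyK x hx.1 (Subgroup.mem_centralizer_iff.1 hx.2 y hy))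
  obtain ⟨a, ha, rfl⟩ := hab
  -- the configuration
  set H₁ := K₁.comap ρ
  have hQH₁ : Q ≤ H₁ := fun x hx => by
    show ρ x ∈ K₁
    rw [show ρ x = 1 from (QuotientGroup.eq_one_iff x).2 hx]; exact one_mem _
  have hidxH : (Q.subgroupOf H₁).index = Nat.card K₁ := by
    have h1 := Subgroup.relIndex_comap (⊥ : Subgroup (X ⧸ Q)) ρ H₁
    rw [Subgroup.map_comap_eq_self_of_surjective hρ, Subgroup.relIndex_bot_left,
      MonoidHom.comap_bot, QuotientGroup.ker_mk'] at h1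
    exact h1
  have hK₁p : (Nat.card K₁).Coprime p := hRp.coprime_dvd_left (Subgroup.card_dvd_of_le hK₁R)
  obtain ⟨K', hK'⟩ := Subgroup.exists_right_complement'_of_coprime (N := Q.subgroupOf H₁) (by
    rw [hidxH]
    have hp' : IsPGroup p (Q.subgroupOf H₁) := hQp.comap_subtype
    obtain ⟨n, hn⟩ := IsPGroup.iff_card.1 hp'
    rw [hn]; exact (hK₁p.pow_right n).symm)
  set K₀ := K'.map H₁.subtype
  have hK₀card : Nat.card K₀ = Nat.card K₁ := by
    rw [Subgroup.card_map_of_injective H₁.subtype_injective, ← hidxH, hK'.symm.index_eq_card]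
  have hK₀Q : ∀ x ∈ K₀, x ∈ Q → x = 1 := by
    rintro _ ⟨x, hx, rfl⟩ hxQ
    have hd := hK'.disjoint
    rw [Subgroup.disjoint_def] at hd
    exact congrArg Subtype.val (hd (Subgroup.mem_subgroupOf.2 hxQ) hx)
  have hQK₀ : ∀ x ∈ H₁, x ∈ Q ⊔ K₀ := by
    intro x hx
    obtain ⟨⟨q, k⟩, he, -⟩ := hK'.existsUnique ⟨x, hx⟩
    rw [show x = ((q : H₁) : X) * ((k : H₁) : X) from (congrArg Subtype.val he).symm]
    exact Subgroup.mul_mem_sup q.2 ⟨_, k.2, rfl⟩
  have hK₀H : K₀ ≤ H₁ := Subgroup.map_subtype_le _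
  have hK₀c : ∀ x ∈ K₀, ∀ y ∈ K₀, x * y = y * x := fun x hx y hy =>
    commutatorElement_eq_one_iff_mul_comm.1 (hK₀Q _ (by
      rw [commutatorElement_def]
      exact mul_mem (mul_mem (mul_mem hx hy) (inv_mem hx)) (inv_mem hy))
      ((QuotientGroup.eq_one_iff _).1 (show ρ ⁅x, y⁆ = 1 by
        rw [map_commutatorElement]
        exact commutatorElement_eq_one_iff_mul_comm.2
          (hRc _ (hK₁R (hK₀H hx)) _ (hK₁R (hK₀H hy))))))
  set D' := A ⊓ (Subgroup.centralizer (K₁ : Set (X ⧸ Q))).comap ρ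
  set P := Q ⊔ D'
  have hPT : P ≤ T := sup_le hQT (inf_le_left.trans hAT)
  set Y := P ⊔ K₀ ⊔ A
  have hPY : P ≤ Y := le_sup_left.trans le_sup_left
  have hKY : K₀ ≤ Y := le_sup_right.trans le_sup_left
  have hAY : A ≤ Y := le_sup_right
  have hD'K : ∀ d ∈ D', ∀ k ∈ K₀, k * d * k⁻¹ ∈ P := by
    intro d hd k hk
    have h1 : ρ (k * d * k⁻¹ * d⁻¹) = 1 := by
      rw [map_mul, map_mul, map_mul, map_inv, map_inv,
        Subgroup.mem_centralizer_iff.1 hd.2 (ρ k) (hK₀H hk), mul_inv_cancel_right, mul_inv_cancel]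
    have := mul_mem (Subgroup.mem_sup_left ((QuotientGroup.eq_one_iff _).1 h1) : _ ∈ P)
      (Subgroup.mem_sup_right hd : d ∈ P)
    rwa [inv_mul_cancel_right] at this
  have hAP : A ≤ Subgroup.normalizer (P : Set X) := by
    intro b hb
    rw [mem_normalizer_iff_cj, cj_sup, cj_of_normal Q]
    congr 1
    refine cj_eq_of_cj_le ?_
    rintro _ ⟨d, hd, rfl⟩
    show b * d * b⁻¹ ∈ D'
    rwa [hAc b hb d hd.1, mul_inv_cancel_right]
  have hKP : K₀ ≤ Subgroup.normalizer (P : Set X) := by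
    intro k hk
    refine mem_normalizer_of_cj_le ?_
    rw [cj_sup, cj_of_normal Q]
    refine sup_le le_sup_left ?_
    rintro _ ⟨d, hd, rfl⟩
    exact hD'K d hd k hk
  have hPn : (P.subgroupOf Y).Normal :=
    Subgroup.normal_subgroupOf_of_le_normalizer (sup_le (sup_le Subgroup.le_normalizer hKP) hAP)
  haveI := hPn
  have hAPK : A ≤ Subgroup.normalizer ((P ⊔ K₀ : Subgroup X) : Set X) := by
    intro b hb
    refine mem_normalizer_of_cj_le ?_
    rw [cj_sup]
    refine sup_le ((cj_eq_self (hAP hb)).le.trans le_sup_left) ?_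
    rintro _ ⟨k, hk, rfl⟩
    have h1 : b * k * b⁻¹ ∈ H₁ := by
      show ρ (b * k * b⁻¹) ∈ K₁
      rw [map_mul, map_mul, map_inv]
      exact conj_mem_of_mem_normalizer (hK₁A ⟨b, hb, rfl⟩) (hK₀H hk)
    exact (sup_le_sup_right (le_sup_left : Q ≤ P) K₀ : Q ⊔ K₀ ≤ P ⊔ K₀) (hQK₀ _ h1)
  have hPKn : (P.subgroupOf Y ⊔ K₀.subgroupOf Y).Normal := by
    rw [← Subgroup.subgroupOf_sup hPY hKY]
    exact Subgroup.normal_subgroupOf_of_le_normalizer (sup_le Subgroup.le_normalizer hAPK)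
  -- indices
  have hAe : A ≤ Subgroup.zpowers a ⊔ (A ⊓ P) := by
    intro x hx
    have h1 : ρ x ∈ Ab ⊓ Subgroup.centralizer (K₁ : Set (X ⧸ Q)) ⊔ Subgroup.zpowers (ρ a) :=
      hcyc.ge ⟨x, hx, rfl⟩
    obtain ⟨u, hu, v, hv, he⟩ := exists_mul_of_mem_sup' (H := Ab ⊓ Subgroup.centralizer (K₁ : Set _))
      (D := Subgroup.zpowers (ρ a)) (Subgroup.zpowers_le.2 (Subgroup.mem_centralizer_iff.2
        fun y hy => hAbc y hy.1 _ ⟨a, ha, rfl⟩)) h1
    obtain ⟨n, rfl⟩ := Subgroup.mem_zpowers_iff.1 hv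
    have h2 : x * (a ^ n)⁻¹ ∈ A ⊓ P := by
      have hm : x * (a ^ n)⁻¹ ∈ A := mul_mem hx (inv_mem (zpow_mem ha n))
      refine Subgroup.mem_inf.2 ⟨hm, Subgroup.mem_sup_right
        (Subgroup.mem_inf.2 ⟨hm, Subgroup.mem_comap.2 ?_⟩)⟩
      rw [map_mul, map_inv, map_zpow, ← he, mul_inv_cancel_right]
      exact hu.2
    have h3 := mul_mem (Subgroup.mem_sup_right h2 : _ ∈ Subgroup.zpowers a ⊔ (A ⊓ P))
      (Subgroup.mem_sup_left (zpow_mem (Subgroup.mem_zpowers a) n))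
    rwa [inv_mul_cancel_right] at h3
  have hAPD : ∀ x ∈ A, x ∈ P → ρ x ∈ Subgroup.centralizer (K₁ : Set (X ⧸ Q)) := by
    intro x _ hx
    suffices P ≤ (Subgroup.centralizer (K₁ : Set (X ⧸ Q))).comap ρ from this hx
    refine sup_le (fun q hq => ?_) inf_le_right
    rw [Subgroup.mem_comap]
    rw [show ρ q = 1 from (QuotientGroup.eq_one_iff q).2 hq]; exact one_mem _
  obtain ⟨j, hj⟩ := IsPGroup.iff_orderOf.1 hAp ⟨a, ha⟩
  rw [Subgroup.orderOf_mk] at hj
  have hexj : ∃ i, a ^ p ^ i ∈ P := ⟨j, by rw [← hj, pow_orderOf_eq_one]; exact one_mem _⟩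
  set e := Nat.find hexj with hedef
  have he1 : a ^ p ^ e ∈ P := Nat.find_spec hexj
  have he0 : e ≠ 0 := by
    intro h0
    rw [h0, pow_zero, pow_one] at he1
    refine hK₁ne (Subgroup.commutator_eq_bot_iff_le_centralizer.2 ?_)
    rw [Subgroup.le_centralizer_iff]
    rintro _ ⟨x, hx, rfl⟩
    refine hAPD x hx ?_
    have := hAe hx
    exact (sup_le (Subgroup.zpowers_le.2 he1) inf_le_right) this
  obtain ⟨f, hf⟩ := Nat.exists_eq_succ_of_ne_zero he0
  have hidx : (A ⊓ P).relIndex A ≤ p ^ e := by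
    let φ : Fin (p ^ e) × (A ⊓ P : Subgroup X) → A := fun q =>
      ⟨a ^ (q.1 : ℕ) * q.2, mul_mem (pow_mem ha _) q.2.2.1⟩
    have hφ : Function.Surjective φ := by
      rintro ⟨x, hx⟩
      obtain ⟨u, hu, v, hv, he⟩ := exists_mul_of_mem_sup' (H := Subgroup.zpowers a) (D := A ⊓ P)
        (fun y hy => Subgroup.mem_centralizer_iff.2 fun w hw =>
          hAc w ((Subgroup.zpowers_le.2 ha) hw) y hy.1) (hAe hx)
      obtain ⟨n, rfl⟩ := Subgroup.mem_zpowers_iff.1 hu
      have hm : (0 : ℤ) < ((p ^ e : ℕ) : ℤ) := by exact_mod_cast pow_pos hp.out.pos e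
      refine ⟨(⟨(n % ((p ^ e : ℕ) : ℤ)).toNat, ?_⟩,
        ⟨(a ^ p ^ e) ^ (n / ((p ^ e : ℕ) : ℤ)) * v, mul_mem
          (zpow_mem (Subgroup.mem_inf.2 ⟨pow_mem ha _, he1⟩ : a ^ p ^ e ∈ A ⊓ P) _) hv⟩), Subtype.ext ?_⟩
      · have := Int.emod_lt_of_pos n hm
        have := Int.emod_nonneg n hm.ne'
        omega
      · show a ^ (n % ((p ^ e : ℕ) : ℤ)).toNat *
          ((a ^ p ^ e) ^ (n / ((p ^ e : ℕ) : ℤ)) * v) = x
        rw [← he, ← zpow_natCast a, Int.toNat_of_nonneg (Int.emod_nonneg n hm.ne'),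
          ← zpow_natCast a (p ^ e), ← zpow_mul, ← mul_assoc, ← zpow_add, Int.emod_add_mul_ediv]
    have h1 := Nat.card_le_card_of_surjective φ hφ
    rw [Nat.card_prod, Nat.card_fin, ← relIndex_mul_card (inf_le_left : A ⊓ P ≤ A), mul_comm] at h1
    exact Nat.le_of_mul_le_mul_right h1 Nat.card_pos
  refine core hp5 (X := Y) (P := P.subgroupOf Y) (K := K₀.subgroupOf Y) (A := A.subgroupOf Y)
    (a := ⟨a, hAY ha⟩) ((hT.isPGroup.to_le hPT).comap_subtype) hAp.comap_subtype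
    (fun x hx y hy => Subtype.ext (hAc _ hx _ hy)) (fun x hx y hy => Subtype.ext (hK₀c _ hx _ hy))
    (by rw [card_subgroupOf hKY, hK₀card]; exact hK₁p) hPKn ha f ?_ ?_ ?_ ?_
  · rw [show A.subgroupOf Y ⊓ P.subgroupOf Y = (A ⊓ P).subgroupOf Y from rfl,
      Subgroup.relIndex_subgroupOf hAY, ← Nat.succ_eq_add_one,
      ← hf]
    exact hidx
  · intro k hk h
    have hnot : ρ (a ^ p ^ f) ∉ Subgroup.centralizer (K₁ : Set (X ⧸ Q)) := fun hc =>
      Nat.find_min hexj (show f < e by omega)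
        (Subgroup.mem_sup_right ⟨pow_mem ha _, hc⟩)
    refine Subtype.ext (hK₀Q _ hk ((QuotientGroup.eq_one_iff _).1 ?_))
    refine hfpf _ ⟨a ^ p ^ f, pow_mem ha _, rfl⟩ hnot _ (hK₀H hk) ?_
    show ρ (a ^ p ^ f) * ρ (k : X) = ρ (k : X) * ρ (a ^ p ^ f)
    have h2 : ⁅a ^ p ^ f, (k : X)⁆ ∈ P := h
    have h3 : ρ ⁅a ^ p ^ f, (k : X)⁆ = 1 := by
      have h4 : ρ ⁅a ^ p ^ f, (k : X)⁆ ∈ K₁ ⊓ T.map ρ := by
        refine ⟨?_, ⟨_, hPT h2, rfl⟩⟩
        rw [map_commutatorElement, commutatorElement_def]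
        exact K₁.mul_mem (conj_mem_of_mem_normalizer (hK₁A ⟨_, pow_mem ha _, rfl⟩) (hK₀H hk))
          (K₁.inv_mem (hK₀H hk))
      have h5 : K₁ ⊓ T.map ρ = ⊥ := by
        obtain ⟨n, hn⟩ := IsPGroup.iff_card.1 (hT.isPGroup.map ρ)
        refine Subgroup.inf_eq_bot_of_coprime ?_
        rw [hn]; exact hK₁p.pow_right n
      exact Subgroup.mem_bot.1 (h5.le h4)
    rw [map_commutatorElement] at h3
    exact commutatorElement_eq_one_iff_mul_comm.1 h3
  · intro h
    rw [← Subgroup.map_eq_bot_iff_of_injective _ Y.subtype_injective, Subgroup.map_commutator,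
      Subgroup.map_subgroupOf_eq_of_le hPY, Subgroup.map_subgroupOf_eq_of_le hKY,
      Subgroup.commutator_eq_bot_iff_le_centralizer, Subgroup.le_centralizer_iff] at h
    have h1 : K₀ ≤ Q := h.trans ((Subgroup.centralizer_le (le_sup_left : Q ≤ P)).trans hC)
    have h2 : Nat.card K₀ = 1 := by
      rw [show K₀ = ⊥ from le_bot_iff.1 fun x hx => Subgroup.mem_bot.2 (hK₀Q x hx (h1 hx))]
      exact Subgroup.card_bot
    rw [hK₀card, Subgroup.card_eq_one] at h2
    exact hK₁ne (by rw [h2]; exact Subgroup.commutator_bot_left _)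
  · intro B hB hBc
    rw [card_subgroupOf hAY, ← card_map_subtype B]
    refine hmax _ ?_ ?_
    · refine (Subgroup.map_mono hB).trans ?_
      rw [Subgroup.map_sup, Subgroup.map_subgroupOf_eq_of_le hPY,
        Subgroup.map_subgroupOf_eq_of_le hAY]
      exact sup_le hPT hAT
    · rintro _ ⟨x, hx, rfl⟩ _ ⟨y, hy, rfl⟩
      exact congrArg Subtype.val (hBc x hx y hy)

universe u

/-- The abelian Thompson subgroup of a maximal Sylow subgroup is normal in a constrained group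
with a normal complement modulo the core. -/
theorem thompsonA_normal_of_coatom (hp5 : 5 ≤ p) {X : Type u} [Group X] [Finite X]
    (hC : Subgroup.centralizer (pCore p X : Set X) ≤ pCore p X)
    (hq : HasNormalPComplement p (X ⧸ pCore p X)) {T : Subgroup X} (hT : SylIn p T ⊤)
    (hco : IsCoatom T) : (inducedFunctor Local.FS.wJA T).Normal := by
  set Q := pCore p X
  have hQT : Q ≤ T := pCore_le_sylIn hT
  set ρ := QuotientGroup.mk' Q
  have hρ : Function.Surjective ρ := QuotientGroup.mk'_surjective Q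
  have hcomapT : (T.map ρ).comap ρ = T := by
    rw [QuotientGroup.comap_map_mk', sup_eq_right.2 hQT]
  have hco' : IsCoatom (T.map ρ) := ⟨fun h => hco.1 (by rw [← hcomapT, h, Subgroup.comap_top]),
    fun L hL => by
      have h3 : (L.comap ρ) = ⊤ := hco.2 _ (lt_of_le_of_ne
        (hcomapT.ge.trans (Subgroup.comap_mono hL.le)) fun h => hL.ne
          (Subgroup.comap_injective hρ (hcomapT.trans h)))
      exact Subgroup.comap_injective hρ (h3.trans (Subgroup.comap_top ρ).symm)⟩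
  have habel := pResidual_commutes (T := T.map ρ) (sylIn_map_mk (N := Q) hT) hco' hq
  obtain ⟨P0, hP0⟩ := (sylIn_map_mk (N := Q) hT).exists_sylow
  have hRT : pResidual p (X ⧸ Q) ⊔ T.map ρ = ⊤ := by rw [← hP0, pResidual_sup_sylow]
  have e : inducedFunctor Local.FS.wJA T =
      sSup (maxIn (fun A : Subgroup X => IsMulCommutative A) T) := by
    show thompsonSubgroupAOf T = _
    rw [thompsonSubgroupAOf, thompsonSubgroupA, map_sSup_subtype, image_maxAbelian]
  have hle : ∀ A ∈ maxIn (fun A : Subgroup X => IsMulCommutative A) T, A ≤ Q := by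
    rintro A ⟨hAT, hA, hmax⟩
    refine maxAbelian_le_core hp5 hC hT (R := pResidual p (X ⧸ Q)) (hnpc_iff.1 hq) habel hRT hAT
      (fun x hx y hy => congrArg Subtype.val (hA.is_comm.comm (⟨x, hx⟩ : A) ⟨y, hy⟩))
      fun B hB hBc => hmax B hB ⟨⟨fun s t => Subtype.ext (hBc s s.2 t t.2)⟩⟩
  rw [e]
  refine normal_iff_cj.2 fun g => cj_eq_of_cj_le ?_
  unfold Cfsg.Agent.Fusion.cj
  rw [Subgroup.map_le_iff_le_comap, sSup_le_iff]
  intro A hA
  rw [← Subgroup.map_le_iff_le_comap]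
  refine le_sSup ⟨?_, ?_, ?_⟩
  · exact ((Subgroup.map_mono (hle A hA)).trans (cj_of_normal Q g).le).trans hQT
  · haveI : IsMulCommutative A := hA.2.1
    infer_instance
  · intro B hB hB'
    exact (hA.2.2 B hB hB').trans (card_cj A g).ge

/-- For `p` at least five the normalizer of the abelian Thompson subgroup decides the existence
of a normal complement. -/
theorem hnpc_of_thompsonA (hp5 : 5 ≤ p) {G : Type u} [Group G] [Finite G] (S : Sylow p G)
    (hN : HasNormalPComplement p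
      (Subgroup.normalizer (inducedFunctor Local.FS.wJA (S : Subgroup G) : Set G))) :
    HasNormalPComplement p G :=
  hnpc_of_functor_sections (Local.FS.isCharPFunctor_wJA (p := p))
    (fun X _ _ _ hC hq T hco => thompsonA_normal_of_coatom hp5 hC hq (sylIn_top T) hco)
    G involves_refl S hN

end Cfsg.Agent.Solv.JNPC
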