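import Mathlib

/-!
# Automorphisms cubically unipotent on traces
-/

set_option autoImplicit false

namespace Cfsg.Agent.Solv.JNPC

variable {S : Type*} [CommRing S] (σ : S →+* S) (I : Ideal S)

/-- The second and first difference of `t` lie in `I` once the third does for `t` and `t * t`. -/
theorem second_diff_mem (hσI : ∀ x ∈ I, σ x ∈ I) (h6 : IsUnit (6 : S))
    (hred : ∀ x, x * x ∈ I → x ∈ I) {t : S}
    (h1 : σ (σ (σ t)) - 3 * σ (σ t) + 3 * σ t - t ∈ I)
    (h2 : σ (σ (σ (t * t))) - 3 * σ (σ (t * t)) + 3 * σ (t * t) - t * t ∈ I) :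
    σ (σ t) - 2 * σ t + t ∈ I := by
  set u := σ t - t with hu
  set v := σ (σ t) - 2 * σ t + t with hv
  set r := σ (σ (σ t)) - 3 * σ (σ t) + 3 * σ t - t with hr
  have h3 : 6 * (u * v + v * v) ∈ I := by
    have e : σ (σ (σ (t * t))) - 3 * σ (σ (t * t)) + 3 * σ (t * t) - t * t =
        6 * (u * v + v * v) + r * (2 * t + 6 * u + 6 * v + r) := by
      simp only [map_mul, hu, hv, hr]; ring
    rw [e] at h2
    simpa using I.sub_mem h2 (I.mul_mem_right (2 * t + 6 * u + 6 * v + r) h1)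
  have h4 : u * v + v * v ∈ I := (Submodule.smul_mem_iff_of_isUnit I h6).1 h3
  refine hred v ?_
  have e : v * v = σ (u * v + v * v) - (u * v + v * v) - r * (u + 3 * v + r) := by
    simp only [map_mul, map_add, map_sub, hu, hv, hr, map_ofNat]; ring
  rw [e]
  exact I.sub_mem (I.sub_mem (hσI _ h4) h4) (I.mul_mem_right _ h1)

theorem first_diff_mem (h2u : IsUnit (2 : S)) (hred : ∀ x, x * x ∈ I → x ∈ I) {t : S}
    (h1 : σ (σ t) - 2 * σ t + t ∈ I)
    (h2 : σ (σ (t * t)) - 2 * σ (t * t) + t * t ∈ I) : σ t - t ∈ I := by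
  refine hred _ ((Submodule.smul_mem_iff_of_isUnit I h2u).1 ?_)
  have e : (2 : S) • ((σ t - t) * (σ t - t)) = σ (σ (t * t)) - 2 * σ (t * t) + t * t -
      (σ (σ t) - 2 * σ t + t) * (2 * t + 4 * (σ t - t) + (σ (σ t) - 2 * σ t + t)) := by
    simp only [map_mul, smul_eq_mul]; ring
  rw [e]
  exact I.sub_mem h2 (I.mul_mem_right _ h1)

/-- An automorphism of odd period of an abelian group of units, cubically unipotent on the sums
`k + k⁻¹`, fixes the group modulo a radical ideal. -/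
theorem fixes_of_trace {K : Type*} [CommGroup K] (g : K →* S) (σK : K →* K)
    (hσ : ∀ k, g (σK k) = σ (g k)) {n : ℕ} (hn : Odd n) (hper : ∀ k, σK^[n] k = k)
    (hσI : ∀ x ∈ I, σ x ∈ I) (h6 : IsUnit (6 : S)) (hred : ∀ x, x * x ∈ I → x ∈ I)
    (hrad : I.IsRadical)
    (h : ∀ k : K, σ (σ (σ (g k + g k⁻¹))) - 3 * σ (σ (g k + g k⁻¹)) + 3 * σ (g k + g k⁻¹) -
      (g k + g k⁻¹) ∈ I) :
    ∀ k, g (σK k) - g k ∈ I := by
  have h2u : IsUnit (2 : S) := isUnit_of_mul_isUnit_left (by norm_num; exact h6 : IsUnit (2 * (3 : S)))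
  have hsq : ∀ k : K, (g k + g k⁻¹) * (g k + g k⁻¹) = g (k * k) + g (k * k)⁻¹ + 2 := by
    intro k
    have e : g k * g k⁻¹ = 1 := by rw [← map_mul, mul_inv_cancel, map_one]
    rw [mul_inv_rev, map_mul, map_mul]
    linear_combination 2 * e
  have h' : ∀ k : K, σ (σ (g k + g k⁻¹)) - 2 * σ (g k + g k⁻¹) + (g k + g k⁻¹) ∈ I := by
    intro k
    refine second_diff_mem σ I hσI h6 hred (h k) ?_
    convert h (k * k) using 1
    simp only [hsq, map_add, map_ofNat]; ring
  have h'' : ∀ k : K, σ (g k + g k⁻¹) - (g k + g k⁻¹) ∈ I := by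
    intro k
    refine first_diff_mem σ I h2u hred (h' k) ?_
    convert h' (k * k) using 1
    simp only [hsq, map_add, map_ofNat]; ring
  intro k
  refine hrad ?_
  rw [Ideal.radical_eq_sInf]
  refine Ideal.mem_sInf.2 ?_
  rintro P ⟨hIP, hP⟩
  let q := Ideal.Quotient.mk P
  have hq : ∀ x ∈ I, q x = 0 := fun x hx => Ideal.Quotient.eq_zero_iff_mem.2 (hIP hx)
  refine Ideal.Quotient.eq_zero_iff_mem.1 ?_
  show q (g (σK k) - g k) = 0
  let φ : K →* S ⧸ P := (q : S →* S ⧸ P).comp g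
  have hpair : ∀ k, φ (σK k) = φ k ∨ φ (σK k) * φ k = 1 := by
    intro k
    have h1 := hq _ (h'' k)
    rw [map_sub, map_add, ← hσ, ← hσ, map_inv] at h1
    change q (g (σK k) + g (σK k)⁻¹) - q (g k + g k⁻¹) = 0 at h1
    rw [map_add, map_add] at h1
    change (φ (σK k) + φ (σK k)⁻¹) - (φ k + φ k⁻¹) = 0 at h1
    have ex : φ (σK k) * φ (σK k)⁻¹ = 1 := by rw [← map_mul, mul_inv_cancel, map_one]
    have ey : φ k * φ k⁻¹ = 1 := by rw [← map_mul, mul_inv_cancel, map_one]
    have h2 : (φ (σK k) - φ k) * (φ (σK k) * φ k - 1) = 0 := by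
      linear_combination (φ (σK k) * φ k) * h1 + φ (σK k) * ey - φ k * ex
    exact (mul_eq_zero.1 h2).imp sub_eq_zero.1 sub_eq_zero.1
  have hall : (∀ k, φ (σK k) = φ k) ∨ ∀ k, φ (σK k) * φ k = 1 := by
    by_contra hc
    push Not at hc
    obtain ⟨⟨a, ha⟩, b, hb⟩ := hc
    have ha' := (hpair a).resolve_left ha
    have hb' := (hpair b).resolve_right hb
    rcases hpair (a * b) with h | h
    · rw [map_mul, map_mul, map_mul, hb'] at h
      refine ha (mul_right_cancel₀ ?_ h)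
      intro h0
      have : φ b * φ b⁻¹ = 1 := by rw [← map_mul, mul_inv_cancel, map_one]
      rw [h0, zero_mul] at this
      exact zero_ne_one this
    · rw [map_mul, map_mul, map_mul, mul_mul_mul_comm, ha', one_mul] at h
      exact hb h
  rw [map_sub, sub_eq_zero]
  show φ (σK k) = φ k
  rcases hall with h0 | h0
  · exact h0 k
  · have hev : ∀ m, φ (σK^[2 * m] k) = φ k := by
      intro m
      induction m with
      | zero => rfl
      | succ m ih =>
        rw [show 2 * (m + 1) = 2 * m + 1 + 1 by omega, Function.iterate_succ_apply',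
          Function.iterate_succ_apply']
        have h1 := h0 (σK (σK^[2 * m] k))
        have h2 := h0 (σK^[2 * m] k)
        rw [← ih]
        linear_combination (φ (σK^[2 * m] k)) * h1 - (φ (σK (σK (σK^[2 * m] k)))) * h2
    obtain ⟨m, hm⟩ := hn
    have h1 := hper k
    rw [hm] at h1
    rw [show (⇑σK)^[2 * m + 1] k = σK ((⇑σK)^[2 * m] k) from Function.iterate_succ_apply' σK (2 * m) k] at h1
    have h2 := h0 (σK^[2 * m] k)
    rw [h1, hev m] at h2
    have h3 := h0 k
    linear_combination (φ k) * h3 - (φ (σK k)) * h2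

end Cfsg.Agent.Solv.JNPC
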